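import Groth.Agent.ASt.Rep
import Groth.Agent.ASp.Basic
/-!
Isomorphisms between values of a functor out of a slice, and their classes in the fibre square.
-/

set_option autoImplicit false
set_option backward.isDefEq.respectTransparency false
set_option backward.isDefEq.respectTransparency.types false
set_option linter.unusedSectionVars false

universe u

open CategoryTheory CategoryTheory.Limits AlgebraicGeometry Opposite

namespace Groth.Agent.KPointChart

open Groth.Agent.ASt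

variable {S : Scheme.{u}} {𝒳 : AlgSt.Cat S} [h𝒳 : FibCat.IsFibGrpd 𝒳.p] {U : Over S}
  {y : FibCat.overCat U ⥤ᵇ 𝒳}

theorem base_eq (y : FibCat.overCat U ⥤ᵇ 𝒳) {T : Over S} (k : T ⟶ U) : 𝒳.p.obj (y.obj (ov k)) = T :=
  (y.w_obj (ov k)).trans (ov_base k)

variable (y) in
/-- An isomorphism over the base between two values. -/
@[ext]
structure IsoG {T : Over S} (k k' : T ⟶ U) where
  /-- the morphism -/
  hom : y.obj (ov k) ⟶ y.obj (ov k')
  vert : 𝒳.p.map hom = eqToHom ((base_eq y k).trans (base_eq y k').symm)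

namespace IsoG

variable {T T' T'' : Over S} {k k' k'' : T ⟶ U} {l l' l'' : T' ⟶ U} {m m' : T'' ⟶ U}

/-- Composition. -/
noncomputable def trans (a : IsoG y k k') (b : IsoG y k' k'') : IsoG y k k'' :=
  ⟨a.hom ≫ b.hom, by rw [Functor.map_comp, a.vert, b.vert, eqToHom_trans]⟩

/-- The identity. -/
noncomputable def refl (k : T ⟶ U) : IsoG y k k :=
  ⟨𝟙 _, by rw [CategoryTheory.Functor.map_id, eqToHom_refl]⟩

instance (a : IsoG y k k') : IsIso a.hom := isIso_of_vert a.hom a.vert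

/-- The inverse. -/
noncomputable def symm (a : IsoG y k k') : IsoG y k' k :=
  ⟨inv a.hom, by
    rw [← cancel_epi (𝒳.p.map a.hom), ← Functor.map_comp, IsIso.hom_inv_id, CategoryTheory.Functor.map_id, a.vert]
    simp⟩

theorem res_aux (g : T' ⟶ T) (e : g ≫ k = l) (e' : g ≫ k' = l') (a : IsoG y k k') :
    eqToHom ((base_eq y l).trans (base_eq y l').symm) ≫ 𝒳.p.map (y.map (ovHom g e')) =
      𝒳.p.map (y.map (ovHom g e) ≫ a.hom) := by
  rw [Functor.map_comp, a.vert, map_w, map_w, ov_p_map, ov_p_map]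
  simp

/-- Restriction. -/
noncomputable def res (g : T' ⟶ T) (e : g ≫ k = l) (e' : g ≫ k' = l') (a : IsoG y k k') : IsoG y l l' :=
  ⟨facMap (y.map (ovHom g e')) (y.map (ovHom g e) ≫ a.hom) _ (res_aux g e e' a),
    map_facMap _ _ _ (res_aux g e e' a)⟩

@[reassoc]
theorem res_comp (g : T' ⟶ T) (e : g ≫ k = l) (e' : g ≫ k' = l') (a : IsoG y k k') :
    (res g e e' a).hom ≫ y.map (ovHom g e') = y.map (ovHom g e) ≫ a.hom :=
  facMap_comp _ _ _ (res_aux g e e' a)

theorem eq_res (g : T' ⟶ T) (e : g ≫ k = l) (e' : g ≫ k' = l') (a : IsoG y k k') (b : IsoG y l l')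
    (h : b.hom ≫ y.map (ovHom g e') = y.map (ovHom g e) ≫ a.hom) : b = res g e e' a :=
  IsoG.ext (hom_ext (y.map (ovHom g e')) (b.vert.trans (res g e e' a).vert.symm) (h.trans (res_comp g e e' a).symm))

theorem res_trans (g : T' ⟶ T) (e : g ≫ k = l) (e' : g ≫ k' = l') (e'' : g ≫ k'' = l'') (a : IsoG y k k')
    (b : IsoG y k' k'') : res g e e'' (a.trans b) = (res g e e' a).trans (res g e' e'' b) :=
  (eq_res g e e'' _ _ (by simp only [trans, Category.assoc, res_comp, res_comp_assoc])).symm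

theorem res_refl (g : T' ⟶ T) (e : g ≫ k = l) : res g e e (refl (y := y) k) = refl l :=
  (eq_res g e e _ _ (by simp [refl])).symm

theorem res_res (g' : T'' ⟶ T') (f : g' ≫ l = m) (f' : g' ≫ l' = m') (g : T' ⟶ T) (e : g ≫ k = l)
    (e' : g ≫ k' = l') (a : IsoG y k k') :
    res g' f f' (res g e e' a) =
      res (g' ≫ g) (by rw [Category.assoc, e, f]) (by rw [Category.assoc, e', f']) a := by
  refine eq_res _ _ _ a _ ?_
  rw [show ovHom (g' ≫ g) (by rw [Category.assoc, e', f'] : (g' ≫ g) ≫ k' = m') = ovHom g' f' ≫ ovHom g e' from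
      Over.OverMorphism.ext rfl,
    show ovHom (g' ≫ g) (by rw [Category.assoc, e, f] : (g' ≫ g) ≫ k = m) = ovHom g' f ≫ ovHom g e from
      Over.OverMorphism.ext rfl,
    Functor.map_comp, Functor.map_comp, res_comp_assoc, res_comp, Category.assoc]

theorem res_congr {g g' : T' ⟶ T} (h : g = g') (e : g ≫ k = l) (e' : g ≫ k' = l') (a : IsoG y k k') :
    res g e e' a = res g' (h ▸ e) (h ▸ e') a := by
  subst h; rfl

theorem res_res_eq {g' : T'' ⟶ T'} {g : T' ⟶ T} {g'' : T'' ⟶ T} (h : g' ≫ g = g'') (f : g' ≫ l = m)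
    (f' : g' ≫ l' = m') (e : g ≫ k = l) (e' : g ≫ k' = l') (a : IsoG y k k') :
    res g' f f' (res g e e' a) = res g'' (by rw [← h, Category.assoc, e, f]) (by rw [← h, Category.assoc, e', f']) a :=
  (res_res g' f f' g e e' a).trans (res_congr h _ _ a)

end IsoG


/-- The morphism of pairs given by two morphisms with the same image. -/
noncomputable def pairHom {a b : 𝒳.obj} (u v : a ⟶ b) (h : 𝒳.p.map u = 𝒳.p.map v) :
    (FibCat.diag (FibCat.toSelf 𝒳)).obj a ⟶ (FibCat.diag (FibCat.toSelf 𝒳)).obj b :=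
  fpHomMk u v ((Category.comp_id _).trans (h.trans (Category.id_comp _).symm))

section Sec

variable {F G : AlgSp.Sp S}

/-- The section of a morphism from a scheme. -/
noncomputable def secOf {T : Over S} (l : (AlgSp.yon S).obj T ⟶ F) : F.obj.obj (op T) :=
  uliftYonedaEquiv.{u + 1} l.hom

/-- The morphism given by a section. -/
noncomputable def homOf {T : Over S} (ξ : F.obj.obj (op T)) : (AlgSp.yon S).obj T ⟶ F :=
  ObjectProperty.homMk (uliftYonedaEquiv.{u + 1}.symm ξ)

theorem secOf_homOf {T : Over S} (ξ : F.obj.obj (op T)) : secOf (homOf ξ : (AlgSp.yon S).obj T ⟶ F) = ξ :=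
  Equiv.apply_symm_apply _ ξ

theorem secOf_injective {T : Over S} : Function.Injective (secOf : ((AlgSp.yon S).obj T ⟶ F) → _) := fun _ _ h =>
  ObjectProperty.hom_ext _ (uliftYonedaEquiv.{u + 1}.injective h)

theorem secOf_map {T' T : Over S} (j : T' ⟶ T) (l : (AlgSp.yon S).obj T ⟶ F) :
    secOf ((AlgSp.yon S).map j ≫ l) = F.obj.map j.op (secOf l) :=
  (uliftYonedaEquiv_naturality l.hom j.op).symm

theorem secOf_comp {T : Over S} (l : (AlgSp.yon S).obj T ⟶ F) (f : F ⟶ G) :
    secOf (l ≫ f) = f.hom.app (op T) (secOf l) := rfl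

end Sec

variable {x : FibCat.overCat U ⥤ᵇ 𝒳}

/-- The class of an isomorphism in the fibre square. -/
noncomputable def toEl {T : Over S} {g g' : T ⟶ U} (a : IsoG x g g') : ClType (FibCat.fp x x) T :=
  fpEl g (ov g') rfl a.hom (a.vert.trans rfl)

theorem fpHom_toEl {T : Over S} {g g' : T ⟶ U} (a : IsoG x g g') : fpHom (toEl a) = g := fpHom_fpEl _ _ _ _ _

theorem clMap_toEl {T T' : Over S} {g g' : T ⟶ U} (r : T' ⟶ T) {l l' : T' ⟶ U} (e : r ≫ g = l)
    (e' : r ≫ g' = l') (a : IsoG x g g') : clMap r (toEl a) = toEl (IsoG.res r e e' a) :=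
  clMap_fpEl r e (ovHom r e') (IsoG.res_comp r e e' a).symm

theorem exists_toEl {T : Over S} (c : ClType (FibCat.fp x x) T) :
    ∃ (g g' : T ⟶ U) (a : IsoG x g g'), toEl a = c := by
  obtain ⟨g, o, ho, φ, hφ, rfl⟩ := fpEl_exists c
  obtain ⟨u', m, hm⟩ : ∃ (u' : T ⟶ U) (m : o ⟶ ov u'), m.left = eqToHom ho :=
    ⟨eqToHom ho.symm ≫ o.hom, Over.homMk (eqToHom ho) (by simp), rfl⟩
  exact ⟨g, u', ⟨φ ≫ x.map m, by
      rw [Functor.map_comp, hφ, map_w, show (FibCat.overCat U).p.map m = _ from hm]; simp⟩,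
    (fpEl_eq_iff.2 ⟨m, hm, rfl⟩).symm⟩

theorem toEl_eq {T : Over S} {g g' h h' : T ⟶ U} {a : IsoG x g g'} {b : IsoG x h h'}
    (e : toEl a = toEl b) :
    ∃ (e₁ : g = h) (e₂ : g' = h'),
      IsoG.res (𝟙 T) ((Category.id_comp g).trans e₁) ((Category.id_comp g').trans e₂) a = b := by
  obtain rfl : g = h := (fpHom_toEl a).symm.trans ((congrArg fpHom e).trans (fpHom_toEl b))
  obtain ⟨m, hm, hm'⟩ := fpEl_eq_iff.1 e
  change (FibCat.overCat U).p.map m = _ at hm
  have hl : m.left = 𝟙 T := hm.trans (eqToHom_refl _ _)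
  obtain rfl : g' = h' := by
    have : m.left ≫ h' = g' := Over.w m
    rw [hl] at this
    exact this.symm.trans (Category.id_comp h')
  refine ⟨rfl, rfl, (IsoG.eq_res (𝟙 T) _ _ a b ?_).symm⟩
  have h1 : ovHom (𝟙 T) (Category.id_comp g') = 𝟙 (ov g') := Over.OverMorphism.ext rfl
  have h2 : ovHom (𝟙 T) (Category.id_comp g) = 𝟙 (ov g) := Over.OverMorphism.ext rfl
  have h3 : m = 𝟙 (ov g') := Over.OverMorphism.ext hl
  have hm'' : a.hom ≫ x.map m = b.hom := hm'
  rw [h3, CategoryTheory.Functor.map_id, Category.comp_id] at hm''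
  rw [h1, h2, CategoryTheory.Functor.map_id, CategoryTheory.Functor.map_id, Category.comp_id, Category.id_comp, hm'']

end Groth.Agent.KPointChart
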