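import Groth.Agent.KPointChart.IsoDef
import Groth.Agent.ASt.OverMapRep
import Groth.Agent.ASt.Local
import Groth.Agent.ASt.SrcDesc
import Groth.Agent.ASt.PtsTop
import Groth.Agent.ASt.Diag
import Groth.Agent.ASp.SmST
import Groth.Agent.RepOne.Desc
/-!
Smooth charts glue along disjoint unions.
-/

set_option autoImplicit false
set_option backward.isDefEq.respectTransparency false
set_option backward.isDefEq.respectTransparency.types false
set_option linter.unusedSectionVars false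
set_option linter.style.haveILetI false

universe u

open CategoryTheory CategoryTheory.Limits AlgebraicGeometry Opposite

namespace Groth.Agent.KPointChart

open Groth.Agent.ASt Groth.Agent.ASp Groth.Agent.RepOne

variable {S : Scheme.{u}} {𝒳 : AlgSt.Cat S} [h𝒳 : FibCat.IsFibGrpd 𝒳.p]

theorem bot_mem {T : Over S} [IsEmpty T.left] : (⊥ : Sieve T) ∈ QuotSh.J Scheme.etalePrecoverage S T := by
  rw [GrothendieckTopology.mem_over_iff]
  refine GrothendieckTopology.superset_covering _ ?_ (Precoverage.generate_mem_toGrothendieck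
    (R := Presieve.ofArrows (fun e : PEmpty.{1} => (PEmpty.elim e : Scheme.{u})) (fun e => PEmpty.elim e))
    ((Scheme.ofArrows_mem_precoverage_iff _).2 ⟨fun x => isEmptyElim x, fun e => PEmpty.elim e⟩))
  rw [Sieve.generate_le_iff]
  rintro _ _ ⟨e⟩
  exact PEmpty.elim e

/-- Over the empty scheme there is exactly one morphism over each vertical one. -/
theorem existsUnique_vert_empty (hst : Stk.IsStack (QuotSh.J Scheme.etalePrecoverage S) 𝒳) (T : Over S)
    [IsEmpty T.left] {x y : 𝒳.obj} (hx : 𝒳.p.obj x = T) (hy : 𝒳.p.obj y = T) :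
    ∃! h : x ⟶ y, 𝒳.p.map h = eqToHom (hx.trans hy.symm) := by
  let D := (Stk.resSieve (⊥ : Sieve T) 𝒳).obj (objFun x hx)
  let mk : ∀ (z : 𝒳.obj) (_ : 𝒳.p.obj z = T), SCone D := fun z hz =>
    { pt := z
      base := hz
      ι := fun s => False.elim s.property
      map_ι := fun s => False.elim s.property
      nat := fun {s t} _ => False.elim s.property }
  obtain ⟨h, ⟨h1, -⟩, h2⟩ := ((isStack_iff.1 hst) _ bot_mem).1 D (mk x hx) (mk y hy)
  exact ⟨h, h1, fun h' e => h2 h' ⟨e, fun s => False.elim s.property⟩⟩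

theorem vert_ext_empty (hst : Stk.IsStack (QuotSh.J Scheme.etalePrecoverage S) 𝒳) {T : Over S}
    [IsEmpty T.left] {x y : 𝒳.obj} (hx : 𝒳.p.obj x = T) {a b : x ⟶ y} (h : 𝒳.p.map a = 𝒳.p.map b) : a = b := by
  let f : T ⟶ 𝒳.p.obj y := eqToHom hx.symm ≫ 𝒳.p.map a
  let χ : ∀ c : x ⟶ y, 𝒳.p.map c = 𝒳.p.map a → {m : x ⟶ pull y rfl f // m ≫ pullHom y rfl f = c ∧
      𝒳.p.map m = eqToHom (hx.trans (pull_base y rfl f).symm)} := fun c hc =>
    ⟨facMap (pullHom y rfl f) c (eqToHom (hx.trans (pull_base y rfl f).symm)) (by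
      rw [map_pullHom, hc]; simp [f]), facMap_comp _ _ _ _, map_facMap _ _ _ _⟩
  rw [← (χ a rfl).2.1, ← (χ b h.symm).2.1, (existsUnique_vert_empty hst T hx (pull_base y rfl f)).unique
    (χ a rfl).2.2 (χ b h.symm).2.2]

variable {ι : Type u} (U : ι → Over S)

/-- The disjoint union of schemes over the base. -/
noncomputable def coprod : Over S := Over.mk (Limits.Sigma.desc fun i => (U i).hom)

/-- Its inclusions. -/
noncomputable def coprodInc (i : ι) : U i ⟶ coprod U :=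
  Over.homMk (Limits.Sigma.ι (fun i => (U i).left) i) (Limits.Sigma.ι_desc _ i)

instance isOpenImmersion_coprodInc (i : ι) : IsOpenImmersion (coprodInc U i).left :=
  (sigmaOpenCover fun i => (U i).left).map_prop i

theorem coprodInc_eq {T : Over S} (hT : ¬ IsEmpty T.left) {i j : ι} (l : T ⟶ U i) (l' : T ⟶ U j)
    (e : l ≫ coprodInc U i = l' ≫ coprodInc U j) : i = j := by
  by_contra h
  exact hT (isEmpty_of_commSq_sigmaι_of_ne (g := fun i => (U i).left) ⟨congrArg (fun t => t.left) e⟩ h)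

theorem coprodInc_inj {T : Over S} {i : ι} {l l' : T ⟶ U i} (e : l ≫ coprodInc U i = l' ≫ coprodInc U i) : l = l' :=
  Over.OverMorphism.ext ((cancel_mono (coprodInc U i).left).1 (congrArg (fun t => t.left) e :))

/-- The covering of a disjoint union by its summands. -/
def coprodSv : Sieve (coprod U) where
  arrows W g := ∃ (i : ι) (l : W ⟶ U i), l ≫ coprodInc U i = g
  downward_closed := fun {W W'} g ⟨i, l, hl⟩ k => ⟨i, k ≫ l, by rw [Category.assoc, hl]⟩

theorem coprodSv_mem : coprodSv U ∈ QuotSh.J Scheme.etalePrecoverage S (coprod U) := by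
  rw [GrothendieckTopology.mem_over_iff]
  refine GrothendieckTopology.superset_covering _ ?_ (Precoverage.generate_mem_toGrothendieck
    (R := Presieve.ofArrows (fun i => (U i).left) (fun i => (coprodInc U i).left))
    ((Scheme.ofArrows_mem_precoverage_iff _).2 ⟨fun x => ?_, fun i => inferInstance⟩))
  · rw [Sieve.generate_le_iff]
    rintro _ _ ⟨i⟩
    exact ⟨U i, coprodInc U i, 𝟙 _, ⟨i, 𝟙 _, Category.id_comp _⟩, (Category.id_comp _).symm⟩
  · obtain ⟨i, y, hy⟩ := (sigmaOpenCover fun i => (U i).left).exists_eq x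
    exact ⟨i, y, hy⟩

variable (p : ∀ i, FibCat.overCat (U i) ⥤ᵇ 𝒳)

open Classical in
/-- Charts glue over a disjoint union. -/
theorem exists_coprod (hst : Stk.IsStack (QuotSh.J Scheme.etalePrecoverage S) 𝒳) :
    ∃ P : FibCat.overCat (coprod U) ⥤ᵇ 𝒳, ∀ i, Nonempty (BasedFunctor.comp (AlgSt.overMap (coprodInc U i)) P ≅ p i) := by
  let R := coprodSv U
  choose I L hL using fun s : (Stk.sieveCat R).obj => s.property
  have hobj : ∀ {T : Over S} {i j : ι} {l : T ⟶ U i} {l' : T ⟶ U j},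
      l ≫ coprodInc U i = l' ≫ coprodInc U j → ¬ IsEmpty T.left → (p i).obj (ov l) = (p j).obj (ov l') := by
    intro T i j l l' e hT
    obtain rfl := coprodInc_eq U hT l l' e
    rw [coprodInc_inj U e]
  let θ : ∀ {T : Over S} {i j : ι} (l : T ⟶ U i) (l' : T ⟶ U j), l ≫ coprodInc U i = l' ≫ coprodInc U j →
      ((p i).obj (ov l) ⟶ (p j).obj (ov l')) := fun {T i j} l l' e =>
    if h : IsEmpty T.left then
      (haveI := h; (existsUnique_vert_empty hst T (base_eq (p i) l) (base_eq (p j) l')).choose)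
    else eqToHom (hobj e h)
  have map_θ : ∀ {T : Over S} {i j : ι} (l : T ⟶ U i) (l' : T ⟶ U j) (e : l ≫ coprodInc U i = l' ≫ coprodInc U j),
      𝒳.p.map (θ l l' e) = eqToHom ((base_eq (p i) l).trans (base_eq (p j) l').symm) := by
    intro T i j l l' e
    simp only [θ]
    split
    · rename_i h
      haveI := h
      exact (existsUnique_vert_empty hst T (base_eq (p i) l) (base_eq (p j) l')).choose_spec.1
    · exact eqToHom_map _ _
  have θ_refl : ∀ {T : Over S} {i : ι} (l : T ⟶ U i), θ l l rfl = 𝟙 _ := by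
    intro T i l
    by_cases h : IsEmpty T.left
    · haveI := h
      exact vert_ext_empty hst (base_eq (p i) l) (by rw [map_θ l l rfl]; simp)
    · simp only [θ, dif_neg h, eqToHom_refl]
  let K : ∀ {T T' : Over S} (n : T ⟶ T') {i j : ι} (l : T ⟶ U i) (l' : T' ⟶ U j),
      l ≫ coprodInc U i = (n ≫ l') ≫ coprodInc U j → ((p i).obj (ov l) ⟶ (p j).obj (ov l')) :=
    fun {T T'} n {i j} l l' e => θ l (n ≫ l') e ≫ (p j).map (ovHom n rfl)
  have map_K : ∀ {T T' : Over S} (n : T ⟶ T') {i j : ι} (l : T ⟶ U i) (l' : T' ⟶ U j)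
      (e : l ≫ coprodInc U i = (n ≫ l') ≫ coprodInc U j), 𝒳.p.map (K n l l' e) =
      eqToHom (base_eq (p i) l) ≫ n ≫ eqToHom (base_eq (p j) l').symm := by
    intro T T' n i j l l' e
    simp only [K, Functor.map_comp, map_θ, map_w, ov_p_map]
    simp
  have K_id : ∀ {T : Over S} {i : ι} (l : T ⟶ U i) (e), K (𝟙 T) l l e = 𝟙 _ := by
    intro T i l e
    have key : ∀ (l₁ : T ⟶ U i) (_ : l₁ = l) (e₁ : l ≫ coprodInc U i = l₁ ≫ coprodInc U i) (ew : 𝟙 T ≫ l = l₁),
        θ l l₁ e₁ ≫ (p i).map (ovHom (𝟙 T) ew) = 𝟙 _ := by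
      rintro l₁ rfl e₁ ew
      rw [θ_refl, show ovHom (𝟙 T) ew = 𝟙 (ov l₁) from Over.OverMorphism.ext rfl,
        CategoryTheory.Functor.map_id, Category.comp_id]
    exact key _ (Category.id_comp l) e rfl
  have K_comp : ∀ {T T' T'' : Over S} (n : T ⟶ T') (n' : T' ⟶ T'') {i j k : ι} (l : T ⟶ U i) (l' : T' ⟶ U j)
      (l'' : T'' ⟶ U k) (e : l ≫ coprodInc U i = (n ≫ l') ≫ coprodInc U j)
      (e' : l' ≫ coprodInc U j = (n' ≫ l'') ≫ coprodInc U k)
      (e'' : l ≫ coprodInc U i = ((n ≫ n') ≫ l'') ≫ coprodInc U k),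
      K (n ≫ n') l l'' e'' = K n l l' e ≫ K n' l' l'' e' := by
    intro T T' T'' n n' i j k l l' l'' e e' e''
    by_cases h : IsEmpty T.left
    · haveI := h
      exact vert_ext_empty hst (base_eq (p i) l) (by
        rw [map_K _ _ _ e'', Functor.map_comp, map_K _ _ _ e, map_K _ _ _ e']; simp)
    have h' : ¬ IsEmpty T'.left := fun h' => h ⟨fun t => h'.false (n.left t)⟩
    obtain rfl := coprodInc_eq U h _ _ e
    obtain rfl := coprodInc_eq U h' _ _ e'
    have hl : l = n ≫ l' := coprodInc_inj U e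
    have hl' : l' = n' ≫ l'' := coprodInc_inj U e'
    subst hl hl'
    simp only [K, θ, dif_neg h, dif_neg h', eqToHom_refl, Category.id_comp, ← Functor.map_comp]
    exact congrArg (fun m => (p i).map m) (Over.OverMorphism.ext rfl)
  have hLe : ∀ {s t : (Stk.sieveCat R).obj} (n : s ⟶ t),
      L s ≫ coprodInc U (I s) = (n.hom.left ≫ L t) ≫ coprodInc U (I t) := fun {s t} n => by
    rw [Category.assoc, hL, hL]
    exact (Over.w n.hom).symm
  let D : Stk.sieveCat R ⥤ᵇ 𝒳 :=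
    { toFunctor :=
        { obj := fun s => (p (I s)).obj (ov (L s))
          map := fun {s t} n => K n.hom.left (L s) (L t) (hLe n)
          map_id := fun s => K_id (L s) (hLe (𝟙 s))
          map_comp := fun {s t r} n n' => K_comp _ _ _ _ _ (hLe n) (hLe n') (hLe (n ≫ n')) }
      w := CategoryTheory.Functor.ext (F := _ ⋙ 𝒳.p) (G := (Stk.sieveCat R).p) (fun s => base_eq (p (I s)) (L s))
        (fun s t n => map_K n.hom.left (L s) (L t) (hLe n)) }
  obtain ⟨c⟩ := ((isStack_iff.1 hst) _ (coprodSv_mem U)).2 D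
  refine ⟨objFun c.pt c.base, fun i => ?_⟩
  let m : U i ⟶ coprod U := 𝟙 (U i) ≫ coprodInc U i
  let s : (Stk.sieveCat R).obj := ⟨Over.mk m, i, 𝟙 _, rfl⟩
  have hs : L s ≫ coprodInc U (I s) = m := hL s
  let raw : (p i).obj (ov (𝟙 (U i))) ⟶ c.pt := θ (𝟙 (U i)) (L s) hs.symm ≫ c.ι s
  have map_raw : 𝒳.p.map raw = eqToHom (base_eq (p i) (𝟙 (U i))) ≫ m ≫ eqToHom c.base.symm := by
    simp only [raw, Functor.map_comp, map_θ, c.map_ι]
    simp [s]
  let φ : (p i).obj (ov (𝟙 (U i))) ⟶ (objFun c.pt c.base).obj (ov m) :=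
    facMap (pullHom c.pt c.base m) raw
      (eqToHom ((base_eq (p i) (𝟙 (U i))).trans (base_eq (objFun c.pt c.base) m).symm))
      (by rw [map_pullHom, map_raw]; simp)
  exact ⟨(funIso (y := p i) (y' := BasedFunctor.comp (AlgSt.overMap (coprodInc U i)) (objFun c.pt c.base)) φ
    (map_facMap _ _ _ _)).symm⟩

/-- A functor out of a disjoint union is smooth as soon as its restrictions are. -/
theorem smooth_of_coprod (hdiag : AlgSt.RepByAlgSp1 (FibCat.diag (FibCat.toSelf 𝒳)))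
    (P : FibCat.overCat (coprod U) ⥤ᵇ 𝒳)
    (h : ∀ i, AlgSt.RepByAlgSpWith (AlgSp.LocP @Smooth) (BasedFunctor.comp (AlgSt.overMap (coprodInc U i)) P)) :
    AlgSt.RepByAlgSpWith (AlgSp.LocP @Smooth) P := by
  haveI := faithful_of_repByAlgSp1 (repByAlgSp1_of_diag hdiag P)
  rw [repByAlgSpWith_iff]
  refine ⟨inferInstance, fun T z => ?_⟩
  obtain ⟨hs, hA⟩ := (repByAlgSp1_iff.1 (repByAlgSp1_of_diag hdiag P)).2 T z
  refine ⟨hs, hA, ((isSmoothLocalST_locP (M := @Smooth)).locality hA (AlgSp.IsAlgSpace.yon_obj T) _).2 fun x => ?_⟩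
  obtain ⟨A, q, hqe, hqs⟩ := hA.atlas
  obtain ⟨xA, hxA⟩ := surjective_map_of_repWith hqs x
  obtain ⟨v, rfl⟩ := (AlgSp.Points.schemeHomeo A).surjective xA
  obtain ⟨l, yv, hyv, ψ, hψ, hel⟩ := fpEl_exists (𝒳 := FibCat.overCat (coprod U)) (𝒴 := 𝒳) (y := z) (f := P) (T := A)
    (uliftYonedaEquiv.{u + 1} q.hom : ClType (FibCat.fp z P) A)
  let k : A ⟶ coprod U := eqToHom hyv.symm ≫ yv.hom
  obtain ⟨i, w₀, hw₀⟩ := (sigmaOpenCover fun i => (U i).left).exists_eq (k.left v)
  let W₀ := k.left ⁻¹ᵁ (coprodInc U i).left.opensRange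
  let W : Over S := Over.mk (W₀.ι ≫ A.hom)
  let j : W ⟶ A := Over.homMk W₀.ι rfl
  have hr : Set.range (W₀.ι ≫ k.left) ⊆ Set.range (coprodInc U i).left := by
    rintro _ ⟨o, rfl⟩
    exact o.2
  let w : W ⟶ U i := Over.homMk (IsOpenImmersion.lift (coprodInc U i).left (W₀.ι ≫ k.left) hr) (by
    show _ ≫ (U i).hom = W₀.ι ≫ A.hom
    rw [← Over.w (coprodInc U i), ← Category.assoc, IsOpenImmersion.lift_fac, Category.assoc, Over.w k])
  have hw : w ≫ coprodInc U i = j ≫ k := Over.OverMorphism.ext (IsOpenImmersion.lift_fac _ _ _)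
  let f := AlgSt.overMap (coprodInc U i)
  let y := objFun yv hyv
  have hbase : (y.obj (ov j)).left = W := (y.w_obj (ov j)).trans (ov_base j)
  let φ : y.obj (ov j) ⟶ f.obj (ov w) := Over.homMk (eqToHom hbase) (by
    show eqToHom hbase ≫ w ≫ coprodInc U i = (y.obj (ov j)).hom
    have h1 : (pullHom yv hyv j).left = eqToHom hbase ≫ j ≫ eqToHom hyv.symm := map_pullHom yv hyv j
    change _ = (pull yv hyv j).hom
    rw [hw, ← Over.w (pullHom yv hyv j), h1]
    simp [k])
  let c : ClType (FibCat.fp y f) W := fpEl j (ov w) rfl φ rfl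
  obtain ⟨hsX, hX, hπX⟩ := (repByAlgSpWith_iff.1 (h i)).2 T z
  obtain ⟨hsY, hY, hπY⟩ := (repByAlgSpWith_iff.1 (repByAlgSpWith_overMap_locP (M := @Smooth)
    (σ := coprodInc U i) inferInstance)).2 A y
  let F : AlgSp.Sp S := ⟨fib z P, hs⟩
  let X : AlgSp.Sp S := ⟨fib z (BasedFunctor.comp f P), hsX⟩
  let Y : AlgSp.Sp S := ⟨fib y f, hsY⟩
  have hq : q.hom = uliftYonedaEquiv.{u + 1}.symm (fpEl (y := z) (f := P) l yv hyv ψ hψ) :=
    uliftYonedaEquiv.eq_symm_apply.2 hel
  let a' : Y ⟶ X := ObjectProperty.homMk (clFun (sectionF f P z l yv hyv ψ hψ))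
  let qi : X ⟶ F := ObjectProperty.homMk (clFun (compF f P z))
  let πY : Y ⟶ (AlgSp.yon S).obj A := ObjectProperty.homMk (fibπ y f)
  let πX : X ⟶ (AlgSp.yon S).obj T := ObjectProperty.homMk (fibπ z (BasedFunctor.comp f P))
  have sq : IsPullback a' πY qi q :=
    IsPullback.of_map_of_faithful (sheafToPresheaf (AlgSp.J S) (Type (u + 1)))
      (by
        change IsPullback _ _ _ q.hom
        rw [hq]
        exact isPullback_sectionF f P z l yv hyv ψ hψ)
  have hqsm : AlgSp.LocP @Smooth q := locP_of_repWith (repWith_mono (fun _ _ g (hg : Etale g) =>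
    (haveI := hg; inferInstance : Smooth g)) hqe)
  have ha' : AlgSp.LocP @Smooth a' := locP_of_isPullback sq (AlgSp.IsAlgSpace.yon_obj A) hA hX hqsm
  have hπ : (ObjectProperty.homMk (fibπ z (BasedFunctor.comp f P)) : X ⟶ (AlgSp.yon S).obj T) =
      qi ≫ ObjectProperty.homMk (fibπ z P) := ObjectProperty.hom_ext _ (clFun_compF_π f P z).symm
  refine ⟨Y, (AlgSp.yon S).obj T, πY ≫ q, 𝟙 _, a' ≫ πX, AlgSp.Points.map (homOf c : (AlgSp.yon S).obj W ⟶ Y)
    (AlgSp.Points.schemeHomeo W ⟨v, ⟨w₀, hw₀⟩⟩), hY, AlgSp.IsAlgSpace.yon_obj T,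
    locP_comp (AlgSp.IsAlgSpace.yon_obj A) hπY hqsm, locP_smooth_id (AlgSp.IsAlgSpace.yon_obj T), ?_, ?_,
    locP_comp hX ha' hπX⟩
  · simp only [Category.comp_id, Category.assoc]
    show πY ≫ q ≫ _ = a' ≫ (ObjectProperty.homMk (fibπ z (BasedFunctor.comp f P)) : X ⟶ (AlgSp.yon S).obj T)
    rw [hπ, ← Category.assoc, ← Category.assoc, sq.w]
  · have hc : (homOf c : (AlgSp.yon S).obj W ⟶ Y) ≫ πY = (AlgSp.yon S).map j := secOf_injective (by
      rw [secOf_comp, secOf_homOf]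
      change (fibπ y f).app (op W) c = _
      rw [fibπ_app]
      exact congrArg ULift.up ((fpHom_fpEl _ _ _ _ _).trans (Category.id_comp j).symm))
    rw [← hxA, ← AlgSp.Points.map_comp, ← Category.assoc, hc]
    show AlgSp.Points.map _ (AlgSp.Points.ofPt (𝟙 _) _) = AlgSp.Points.map q (AlgSp.Points.ofPt (𝟙 _) v)
    rw [AlgSp.Points.map_ofPt, AlgSp.Points.map_ofPt, Category.id_comp, Category.id_comp, ofPt_yon_map_comp]
    rfl

end Groth.Agent.KPointChart
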