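import Mathlib

/-!
Making the action of a finite group on an affine scheme free, keeping an equivariant point.
-/

set_option autoImplicit false
set_option backward.isDefEq.respectTransparency false
set_option backward.isDefEq.respectTransparency.types false

universe u

open CategoryTheory CategoryTheory.Limits AlgebraicGeometry MvPolynomial

namespace Groth.Agent.KPointChart

/-- The morphism of spectra of a group element. -/
noncomputable abbrev specAct {G : Type u} [Group G] {B : Type u} [CommRing B] [MulSemiringAction G B] (g : G) :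
    Spec (CommRingCat.of B) ⟶ Spec (CommRingCat.of B) :=
  Spec.map (CommRingCat.ofHom (MulSemiringAction.toRingHom G B g⁻¹))

theorem specAct_comp {G : Type u} [Group G] {B : Type u} [CommRing B] [MulSemiringAction G B] (h k : G) :
    specAct (B := B) k ≫ specAct h = specAct (h * k) := by
  rw [specAct, specAct, specAct, ← Spec.map_comp]
  congr 1
  refine CommRingCat.hom_ext (RingHom.ext fun b => ?_)
  show k⁻¹ • h⁻¹ • b = (h * k)⁻¹ • b
  rw [smul_smul, mul_inv_rev]

theorem specAct_one {G : Type u} [Group G] {B : Type u} [CommRing B] [MulSemiringAction G B] :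
    specAct (B := B) (1 : G) = 𝟙 _ := by
  rw [specAct, ← Spec.map_id]
  congr 1
  refine CommRingCat.hom_ext (RingHom.ext fun b => ?_)
  show (1 : G)⁻¹ • b = b
  rw [inv_one, one_smul]

/-- An affine scheme with an action and an equivariant point is covered smoothly by one with a free action. -/
theorem exists_free {S : Scheme.{u}} {W : Over S} [IsAffine W.left] {G : Type u} [Group G] [Finite G]
    (ρ : G → (W ⟶ W)) (hρ1 : ρ 1 = 𝟙 W) (hρ : ∀ h k, ρ k ≫ ρ h = ρ (h * k))
    {L : Type u} [Field L] [MulSemiringAction G L] (θ : L) (hθ : ∀ g : G, g ≠ 1 → g • θ ≠ θ)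
    {str : Spec (CommRingCat.of L) ⟶ S} (P : Over.mk str ⟶ W)
    (hP : ∀ g, specAct g ≫ P.left = P.left ≫ (ρ g).left) :
    ∃ (B : Type u) (_ : CommRing B) (_ : MulSemiringAction G B) (v : Spec (CommRingCat.of B) ⟶ W.left)
      (e : B →+* L), Smooth v ∧ (∀ g, specAct g ≫ v = v ≫ (ρ g).left) ∧
      (∀ g : G, g ≠ 1 → Ideal.span (Set.range fun b : B => b - g • b) = ⊤) ∧
      (∀ (g : G) (b : B), e (g • b) = g • e b) ∧ Spec.map (CommRingCat.ofHom e) ≫ v = P.left := by
  classical
  haveI := Fintype.ofFinite G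
  let R : Type u := Γ(W.left, ⊤)
  obtain ⟨act, hact⟩ : ∃ act : G → R →+* R, ∀ g r, act g r = (ρ g⁻¹).left.appTop.hom r := ⟨_, fun g r => rfl⟩
  have act_mul : ∀ h k (r : R), act (h * k) r = act h (act k r) := fun h k r => by
    rw [hact, hact, hact, mul_inv_rev, ← hρ k⁻¹ h⁻¹, Over.comp_left, Scheme.Hom.comp_appTop]
    rfl
  have act_one : ∀ r : R, act 1 r = r := fun r => by
    rw [hact, inv_one, hρ1]
    rfl
  obtain ⟨ψ, ψ_C, ψ_X⟩ : ∃ ψ : G → MvPolynomial G R →+* MvPolynomial G R,
      (∀ g r, ψ g (C r) = C (act g r)) ∧ ∀ g x, ψ g (X x) = X (g * x) :=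
    ⟨fun g => eval₂Hom (C.comp (act g)) fun x => X (g * x), fun g r => eval₂Hom_C _ _ _, fun g x => eval₂Hom_X' _ _ _⟩
  have ψ_mul : ∀ h k, ψ (h * k) = (ψ h).comp (ψ k) := fun h k => by
    refine MvPolynomial.ringHom_ext (fun r => ?_) fun x => ?_
    · rw [ψ_C, RingHom.comp_apply, ψ_C, ψ_C, act_mul]
    · rw [ψ_X, RingHom.comp_apply, ψ_X, ψ_X, mul_assoc]
  have ψ_one : ψ 1 = RingHom.id _ := by
    refine MvPolynomial.ringHom_ext (fun r => ?_) fun x => ?_
    · rw [ψ_C, act_one]; rfl
    · rw [ψ_X, one_mul]; rfl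
  let I : Type u := {p : G × G // p.1 ≠ p.2}
  obtain ⟨Δ, hΔ⟩ : ∃ Δ : MvPolynomial G R, Δ = ∏ p : I, (X p.1.1 - X p.1.2) := ⟨_, rfl⟩
  have ψ_Δ : ∀ g, ψ g Δ = Δ := fun g => by
    let σ : I ≃ I := Equiv.subtypeEquiv ((Equiv.mulLeft g).prodCongr (Equiv.mulLeft g)) fun p => by simp
    rw [hΔ, map_prod]
    refine Fintype.prod_equiv σ _ _ fun p => ?_
    rw [map_sub, ψ_X, ψ_X]
    rfl
  obtain ⟨B, _, _, _⟩ : ∃ (B : Type u) (_ : CommRing B) (_ : Algebra (MvPolynomial G R) B),
      IsLocalization.Away Δ B := ⟨Localization.Away Δ, inferInstance, inferInstance, inferInstance⟩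
  have hu : ∀ g, IsUnit ((algebraMap (MvPolynomial G R) B).comp (ψ g) Δ) := fun g => by
    rw [RingHom.comp_apply, ψ_Δ]
    exact IsLocalization.Away.algebraMap_isUnit Δ
  obtain ⟨Φ, Φ_alg⟩ : ∃ Φ : G → B →+* B, ∀ g x, Φ g (algebraMap _ B x) = algebraMap _ B (ψ g x) :=
    ⟨fun g => IsLocalization.Away.lift Δ (hu g), fun g x => IsLocalization.Away.lift_eq Δ (hu g) x⟩
  have Φ_mul : ∀ h k, Φ (h * k) = (Φ h).comp (Φ k) := fun h k =>
    IsLocalization.ringHom_ext (Submonoid.powers Δ) (RingHom.ext fun x => by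
      simp only [RingHom.comp_apply, Φ_alg, ψ_mul])
  have Φ_one : Φ 1 = RingHom.id B :=
    IsLocalization.ringHom_ext (Submonoid.powers Δ) (RingHom.ext fun x => by
      simp only [RingHom.comp_apply, Φ_alg, ψ_one, RingHom.id_apply])
  letI iB : MulSemiringAction G B :=
    { smul := fun g b => Φ g b
      one_smul := fun b => by show Φ 1 b = b; rw [Φ_one]; rfl
      mul_smul := fun g h b => by show Φ (g * h) b = Φ g (Φ h b); rw [Φ_mul]; rfl
      smul_zero := fun g => map_zero (Φ g)
      smul_add := fun g => map_add (Φ g)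
      smul_one := fun g => map_one (Φ g)
      smul_mul := fun g => map_mul (Φ g) }
  have smul_eq : ∀ (g : G) (b : B), g • b = Φ g b := fun g b => rfl
  obtain ⟨algR, halgR⟩ : ∃ algR : CommRingCat.of R ⟶ CommRingCat.of B,
      ∀ r, algR.hom r = algebraMap (MvPolynomial G R) B (C r) :=
    ⟨CommRingCat.ofHom ((algebraMap (MvPolynomial G R) B).comp C), fun r => rfl⟩
  let v : Spec (CommRingCat.of B) ⟶ W.left := Spec.map algR ≫ W.left.isoSpec.inv
  -- the evaluation
  obtain ⟨eR, heR⟩ : ∃ eR : CommRingCat.of R ⟶ CommRingCat.of L, Spec.map eR ≫ W.left.isoSpec.inv = P.left :=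
    ⟨Spec.preimage (P.left ≫ W.left.isoSpec.hom), by
      rw [Spec.map_preimage, Category.assoc, Iso.hom_inv_id, Category.comp_id]⟩
  have heq : ∀ g r, eR.hom (act g r) = g • eR.hom r := fun g r => by
    have h1 := hP g⁻¹
    rw [← heR, Category.assoc, ← Scheme.isoSpec_inv_naturality, ← Category.assoc, ← Category.assoc,
      cancel_mono, ← Spec.map_comp, ← Spec.map_comp] at h1
    have h2 := congr($(Spec.map_injective h1).hom r)
    change (g⁻¹)⁻¹ • eR.hom r = eR.hom ((ρ g⁻¹).left.appTop.hom r) at h2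
    rw [inv_inv, ← hact] at h2
    exact h2.symm
  obtain ⟨e₀, e₀_C, e₀_X⟩ : ∃ e₀ : MvPolynomial G R →+* L,
      (∀ r, e₀ (C r) = eR.hom r) ∧ ∀ x, e₀ (X x) = x • θ :=
    ⟨eval₂Hom eR.hom fun x => x • θ, fun r => eval₂Hom_C _ _ _, fun x => eval₂Hom_X' _ _ _⟩
  have he₀ψ : ∀ g x, e₀ (ψ g x) = g • e₀ x := fun g x => by
    have : e₀.comp (ψ g) = (MulSemiringAction.toRingHom G L g).comp e₀ := by
      refine MvPolynomial.ringHom_ext (fun r => ?_) fun y => ?_
      · show e₀ (ψ g (C r)) = g • e₀ (C r)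
        rw [ψ_C, e₀_C, e₀_C, heq]
      · show e₀ (ψ g (X y)) = g • e₀ (X y)
        rw [ψ_X, e₀_X, e₀_X, smul_smul]
    exact congr($this x)
  have he₀Δ : IsUnit (e₀ Δ) := by
    refine isUnit_iff_ne_zero.2 ?_
    rw [hΔ, map_prod]
    refine Finset.prod_ne_zero_iff.2 fun p _ h => ?_
    rw [map_sub, e₀_X, e₀_X, sub_eq_zero] at h
    have h1 := congrArg (fun t => p.1.2⁻¹ • t) h
    simp only [smul_smul, inv_mul_cancel, one_smul] at h1
    exact hθ _ (fun hh => p.2 (inv_mul_eq_one.1 hh).symm) h1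
  obtain ⟨e, e_alg⟩ : ∃ e : B →+* L, ∀ x, e (algebraMap _ B x) = e₀ x :=
    ⟨IsLocalization.Away.lift Δ he₀Δ, fun x => IsLocalization.Away.lift_eq Δ he₀Δ x⟩
  refine ⟨B, inferInstance, iB, v, e, ?_, fun g => ?_, fun g hg => ?_, fun g b => ?_, ?_⟩
  · -- smoothness
    haveI : Smooth (Spec.map algR) := by
      rw [HasRingHomProperty.Spec_iff (P := @Smooth)]
      haveI : Algebra.Smooth R (MvPolynomial G R) := ⟨inferInstance, inferInstance⟩
      haveI : Algebra.Smooth (MvPolynomial G R) B := Algebra.Smooth.of_isLocalization_Away Δ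
      letI : Algebra R B := ((algebraMap (MvPolynomial G R) B).comp (algebraMap R (MvPolynomial G R))).toAlgebra
      haveI : IsScalarTower R (MvPolynomial G R) B := IsScalarTower.of_algebraMap_eq fun _ => rfl
      have : Algebra.Smooth R B := Algebra.Smooth.comp R (MvPolynomial G R) B
      have h : algR.hom = algebraMap R B := RingHom.ext fun r => by
        rw [halgR, IsScalarTower.algebraMap_apply R (MvPolynomial G R) B, MvPolynomial.algebraMap_eq]
      rw [h]
      exact RingHom.smooth_algebraMap.2 this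
    infer_instance
  · -- equivariance
    simp only [v, Category.assoc]
    rw [← Scheme.isoSpec_inv_naturality, ← Category.assoc, ← Category.assoc, ← Spec.map_comp, ← Spec.map_comp]
    congr 2
    refine CommRingCat.hom_ext (RingHom.ext fun r => ?_)
    show g⁻¹ • algR.hom r = algR.hom ((ρ g).left.appTop.hom r)
    rw [halgR, halgR, smul_eq, Φ_alg, ψ_C, hact, inv_inv]
  · -- freeness
    refine Ideal.eq_top_of_isUnit_mem _ (Ideal.subset_span ⟨algebraMap (MvPolynomial G R) B (X 1), rfl⟩) ?_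
    beta_reduce
    rw [smul_eq, Φ_alg, ψ_X, mul_one, ← map_sub]
    have hΔu : IsUnit (algebraMap (MvPolynomial G R) B Δ) := IsLocalization.Away.algebraMap_isUnit Δ
    rw [hΔ, map_prod] at hΔu
    have h2 : ∏ p : I, algebraMap (MvPolynomial G R) B (X p.1.1 - X p.1.2) =
        algebraMap (MvPolynomial G R) B (X 1 - X g) *
          ∏ p ∈ Finset.univ.erase (⟨(1, g), fun h => hg h.symm⟩ : I),
            algebraMap (MvPolynomial G R) B (X p.1.1 - X p.1.2) :=
      (Finset.mul_prod_erase Finset.univ _ (Finset.mem_univ (⟨(1, g), fun h => hg h.symm⟩ : I))).symm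
    exact isUnit_of_mul_isUnit_left (h2 ▸ hΔu)
  · -- equivariance of the point
    have : e.comp (Φ g) = (MulSemiringAction.toRingHom G L g).comp e :=
      IsLocalization.ringHom_ext (Submonoid.powers Δ) (RingHom.ext fun x => by
        simp only [RingHom.comp_apply, Φ_alg, e_alg, he₀ψ]
        rfl)
    rw [smul_eq]
    exact congr($this b)
  · simp only [v, ← Category.assoc, ← Spec.map_comp]
    rw [← heR]
    congr 2
    refine CommRingCat.hom_ext (RingHom.ext fun r => ?_)
    show e (algR.hom r) = eR.hom r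
    rw [halgR, e_alg, e₀_C]

end Groth.Agent.KPointChart
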