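import Mathlib
import Groth.Agent.QuotLib.FreeAlg
import Groth.Agent.KPointChart.Free
import Groth.Agent.ASp.SchDenseFlat
/-!
Coverings of affine schemes by free actions of finite groups.
-/

set_option autoImplicit false
set_option backward.isDefEq.respectTransparency false
set_option backward.isDefEq.respectTransparency.types false
set_option linter.style.haveILetI false

universe u

open CategoryTheory CategoryTheory.Limits AlgebraicGeometry
open scoped TensorProduct

namespace Groth.Agent.KPointChart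

open Groth.Agent.ASp

/-- An etale covering which is a torsor under a finite group. -/
structure GCov {S : Scheme.{u}} (C C₀ : Over S) (G : Type u) [Group G] where
  /-- the fibre square -/
  P : Over S
  /-- the covering -/
  π : C ⟶ C₀
  /-- the action -/
  σ : G → (C ⟶ C)
  /-- first projection -/
  pr₁ : P ⟶ C
  /-- second projection -/
  pr₂ : P ⟶ C
  /-- the pieces of the fibre square -/
  ζ : G → (C ⟶ P)
  σ_one : σ 1 = 𝟙 C
  σ_mul : ∀ h k, σ k ≫ σ h = σ (h * k)
  σ_π : ∀ g, σ g ≫ π = π
  etale : Etale π.left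
  surj : Surjective π.left
  pr_π : pr₁ ≫ π = pr₂ ≫ π
  exists_lift : ∀ {T : Over S} (l l' : T ⟶ C), l ≫ π = l' ≫ π → ∃ m : T ⟶ P, m ≫ pr₁ = l ∧ m ≫ pr₂ = l'
  hom_ext : ∀ {T : Over S} (m m' : T ⟶ P), m ≫ pr₁ = m' ≫ pr₁ → m ≫ pr₂ = m' ≫ pr₂ → m = m'
  ζ_pr₁ : ∀ g, ζ g ≫ pr₁ = 𝟙 C
  ζ_pr₂ : ∀ g, ζ g ≫ pr₂ = σ g
  isIso_desc : IsIso (Limits.Sigma.desc fun g => (ζ g).left)

namespace GCov

variable {S : Scheme.{u}} {C C₀ : Over S} {G : Type u} [Group G] (V : GCov C C₀ G)

/-- Locally two lifts of one morphism differ by an element of the group. -/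
theorem exists_piece {T : Over S} (l l' : T ⟶ C) (e : l ≫ V.π = l' ≫ V.π) (t : ↥T.left) :
    ∃ (O : T.left.Opens) (g : G), t ∈ O ∧ openInc O ≫ l' = openInc O ≫ l ≫ V.σ g := by
  haveI := V.isIso_desc
  obtain ⟨m, hm₁, hm₂⟩ := V.exists_lift l l' e
  let d := Limits.Sigma.desc fun g => (V.ζ g).left
  let K : G → Scheme.{u} := fun _ => C.left
  obtain ⟨g, x, hx⟩ := (sigmaOpenCover K).exists_eq ((inv d) (m.left t))
  haveI : IsOpenImmersion (V.ζ g).left := by
    rw [← Sigma.ι_desc (fun g => (V.ζ g).left) g]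
    haveI : IsOpenImmersion (Sigma.ι (fun _ : G => C.left) g) := (sigmaOpenCover K).map_prop g
    infer_instance
  let O : T.left.Opens := m.left ⁻¹ᵁ (V.ζ g).left.opensRange
  refine ⟨O, g, ⟨x, ?_⟩, ?_⟩
  · rw [← Sigma.ι_desc (fun g => (V.ζ g).left) g, Scheme.Hom.comp_apply,
      show Sigma.ι (fun _ : G => C.left) g x = (inv d) (m.left t) from hx, ← Scheme.Hom.comp_apply,
      IsIso.inv_hom_id]
    rfl
  · have hr : Set.range (openInc O ≫ m).left ⊆ Set.range (V.ζ g).left := by
      rintro _ ⟨z, rfl⟩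
      exact z.2
    let x' := IsOpenImmersion.lift (V.ζ g).left (openInc O ≫ m).left hr
    let y : openOver O ⟶ C := Over.homMk x' (by
      rw [← Over.w (V.ζ g), ← Category.assoc, IsOpenImmersion.lift_fac]
      exact Over.w (openInc O ≫ m))
    have hy : y ≫ V.ζ g = openInc O ≫ m := Over.OverMorphism.ext (IsOpenImmersion.lift_fac _ _ _)
    have h1 : openInc O ≫ l = y := by
      rw [← hm₁, ← Category.assoc, ← hy, Category.assoc, V.ζ_pr₁, Category.comp_id]
    rw [← hm₂, ← Category.assoc, ← hy, Category.assoc, V.ζ_pr₂, ← Category.assoc, h1]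

end GCov

section Rings

variable {A B : Type u} [CommRing A] [CommRing B] [Algebra A B] {G : Type u} [Group G] [Finite G]
  [MulSemiringAction G B] [SMulCommClass G A B] [Algebra.IsInvariant A B G]

/-- The tensor square of a free extension is a product of copies. -/
theorem bijective_twists (hfree : ∀ g : G, g ≠ 1 → Ideal.span (Set.range fun b : B => b - g • b) = ⊤) :
    Function.Bijective (fun (z : B ⊗[A] B) (g : G) => QuotLib.mulTwist (A := A) g z) := by
  classical
  haveI := Fintype.ofFinite G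
  obtain ⟨u, hu1, hug⟩ := QuotLib.exists_separating (A := A) hfree
  let μ : G → B ⊗[A] B →ₐ[A] B := fun h => QuotLib.mulTwist h
  let e : G → B ⊗[A] B := fun h =>
    Algebra.TensorProduct.map (AlgHom.id A B) (MulSemiringAction.toAlgHom A B h⁻¹) u
  have hμe : ∀ g h, μ g (e h) = if g = h then 1 else 0 := fun g h => by
    have h1 : ∀ z, μ g (Algebra.TensorProduct.map (AlgHom.id A B) (MulSemiringAction.toAlgHom A B h⁻¹) z) =
        μ (g * h⁻¹) z := fun z => by
      refine DFunLike.congr_fun (Algebra.TensorProduct.ext'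
        (g := (μ g).comp (Algebra.TensorProduct.map (AlgHom.id A B) (MulSemiringAction.toAlgHom A B h⁻¹)))
        (h := μ (g * h⁻¹)) fun b c => ?_) z
      show μ g (b ⊗ₜ (h⁻¹ • c)) = _
      rw [QuotLib.mulTwist_tmul, QuotLib.mulTwist_tmul, smul_smul]
    rw [h1]
    split_ifs with hgh
    · subst hgh; rw [mul_inv_cancel]; exact hu1
    · exact hug _ fun h' => hgh (mul_inv_eq_one.1 h')
  refine ⟨?_, fun f => ⟨∑ h : G, (f h ⊗ₜ[A] (1 : B)) * e h, funext fun g => ?_⟩⟩
  · -- injectivity
    obtain ⟨s, hs⟩ := TensorProduct.exists_finset u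
    have hδ : ∀ g : G, ∑ i ∈ s, i.1 * g • i.2 = if g = 1 then 1 else 0 := fun g => by
      have : QuotLib.mulTwist (A := A) g u = ∑ i ∈ s, i.1 * g • i.2 := by rw [hs, map_sum]; rfl
      rw [← this]
      split_ifs with h
      · subst h; exact hu1
      · exact hug g h
    have htr : ∀ b : B, ∃ x : A, algebraMap A B x = ∑ g : G, g • b := fun b =>
      Algebra.IsInvariant.isInvariant (G := G) _ fun h => by
        rw [Finset.smul_sum]
        refine Fintype.sum_equiv (Equiv.mulLeft h) _ _ fun g => ?_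
        rw [smul_smul]; rfl
    choose t ht using htr
    have hsym : ∀ d : B, ∑ i ∈ s, algebraMap A B (t (d * i.1)) * i.2 = d := fun d => by
      simp only [ht, Finset.sum_mul, smul_mul']
      rw [Finset.sum_comm, Finset.sum_eq_single_of_mem (1 : G) (Finset.mem_univ _) fun g _ hg => ?_]
      · simp only [one_smul, mul_assoc, ← Finset.mul_sum]
        have := hδ 1
        simp only [one_smul, if_pos] at this
        rw [this, mul_one]
      · have := congrArg (fun z => g • d * g • z) (hδ g⁻¹)
        simp only [inv_eq_one, hg, if_false, smul_zero, mul_zero, Finset.smul_sum, smul_mul',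
          smul_inv_smul, Finset.mul_sum] at this
        rw [← this]
        exact Finset.sum_congr rfl fun i _ => mul_assoc _ _ _
    have hinv : ∀ z : B ⊗[A] B, z = ∑ h : G, (μ h z ⊗ₜ[A] (1 : B)) * ∑ i ∈ s, (h • i.1) ⊗ₜ[A] i.2 := by
      intro z
      induction z using TensorProduct.induction_on with
      | zero => simp
      | add x y hx hy =>
        simp only [map_add, TensorProduct.add_tmul, add_mul, Finset.sum_add_distrib]
        rw [← hx, ← hy]
      | tmul b c =>
        conv_lhs => rw [← hsym c, TensorProduct.tmul_sum]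
        simp only [μ, QuotLib.mulTwist_tmul, Finset.mul_sum, Algebra.TensorProduct.tmul_mul_tmul, one_mul]
        rw [Finset.sum_comm]
        refine Finset.sum_congr rfl fun i _ => ?_
        rw [← Algebra.smul_def, ← TensorProduct.smul_tmul, Algebra.smul_def, ← TensorProduct.sum_tmul, ht,
          Finset.sum_mul]
        congr 1
        refine Finset.sum_congr rfl fun g _ => ?_
        rw [smul_mul']
        ring
    intro z z' h
    rw [hinv z, hinv z']
    exact Finset.sum_congr rfl fun g _ => by rw [show μ g z = μ g z' from congrFun h g]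
  · show μ g (∑ h, (f h ⊗ₜ[A] (1 : B)) * e h) = f g
    rw [map_sum, Finset.sum_eq_single g]
    · rw [map_mul, hμe, if_pos rfl, mul_one]
      show f g * g • (1 : B) = f g
      rw [smul_one, mul_one]
    · intro h _ hh
      rw [map_mul, hμe, if_neg (Ne.symm hh), mul_zero]
    · intro h; exact absurd (Finset.mem_univ g) h

/-- A free extension with its group as a torsor over the spectrum of the invariants. -/
theorem exists_gcov (hinj : Function.Injective (algebraMap A B))
    (hfree : ∀ g : G, g ≠ 1 → Ideal.span (Set.range fun b : B => b - g • b) = ⊤) {S : Scheme.{u}}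
    (str₀ : Spec (CommRingCat.of A) ⟶ S) (str : Spec (CommRingCat.of B) ⟶ S)
    (hstr : Spec.map (CommRingCat.ofHom (algebraMap A B)) ≫ str₀ = str) :
    ∃ V : GCov (Over.mk str) (Over.mk str₀) G,
      V.π.left = Spec.map (CommRingCat.ofHom (algebraMap A B)) ∧ ∀ g, (V.σ g).left = specAct g := by
  classical
  obtain ⟨hfin, hproj, het⟩ := QuotLib.finite_projective_etale_of_free hinj hfree
  let al : CommRingCat.of A ⟶ CommRingCat.of B := CommRingCat.ofHom (algebraMap A B)
  let C : Over S := Over.mk str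
  let C₀ : Over S := Over.mk str₀
  let π : C ⟶ C₀ := Over.homMk (Spec.map al) hstr
  have hσπ : ∀ g : G, specAct g ≫ Spec.map al = Spec.map al := fun g => by
    rw [specAct, ← Spec.map_comp]
    congr 1
    exact CommRingCat.hom_ext (RingHom.ext fun r => smul_algebraMap g⁻¹ r)
  let σ : G → (C ⟶ C) := fun g => Over.homMk (specAct g) (by
    show specAct g ≫ str = str
    rw [← hstr, ← Category.assoc, hσπ])
  let inl : CommRingCat.of B ⟶ CommRingCat.of (B ⊗[A] B) :=
    CommRingCat.ofHom Algebra.TensorProduct.includeLeftRingHom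
  let inr : CommRingCat.of B ⟶ CommRingCat.of (B ⊗[A] B) :=
    CommRingCat.ofHom (Algebra.TensorProduct.includeRight (R := A) (A := B) (B := B)).toRingHom
  have sq : IsPullback (Spec.map inl) (Spec.map inr) (Spec.map al) (Spec.map al) :=
    isPullback_SpecMap_of_isPushout _ _ _ _ (CommRingCat.isPushout_tensorProduct A B B)
  let P : Over S := Over.mk (Spec.map inl ≫ str)
  let pr₁ : P ⟶ C := Over.homMk (Spec.map inl) rfl
  let pr₂ : P ⟶ C := Over.homMk (Spec.map inr) (by
    show Spec.map inr ≫ str = Spec.map inl ≫ str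
    rw [← hstr, ← Category.assoc, ← Category.assoc, sq.w])
  have lift : ∀ {T : Over S} (l l' : T ⟶ C), l ≫ π = l' ≫ π → ∃ m : T ⟶ P, m ≫ pr₁ = l ∧ m ≫ pr₂ = l' :=
    fun {T} l l' h => ⟨Over.homMk (sq.lift l.left l'.left (congrArg (·.left) h)) (by
        show _ ≫ Spec.map inl ≫ str = T.hom
        rw [sq.lift_fst_assoc]
        exact Over.w l),
      Over.OverMorphism.ext (sq.lift_fst _ _ _), Over.OverMorphism.ext (sq.lift_snd _ _ _)⟩
  have hext : ∀ {T : Over S} (m m' : T ⟶ P), m ≫ pr₁ = m' ≫ pr₁ → m ≫ pr₂ = m' ≫ pr₂ → m = m' :=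
    fun m m' h₁ h₂ => Over.OverMorphism.ext (sq.hom_ext (congrArg (·.left) h₁) (congrArg (·.left) h₂))
  let tw : G → (CommRingCat.of (B ⊗[A] B) ⟶ CommRingCat.of B) := fun g =>
    CommRingCat.ofHom (QuotLib.mulTwist (A := A) g⁻¹).toRingHom
  have htw₁ : ∀ g, inl ≫ tw g = 𝟙 _ := fun g => CommRingCat.hom_ext (RingHom.ext fun b => by
    show QuotLib.mulTwist (A := A) g⁻¹ (b ⊗ₜ 1) = b
    rw [QuotLib.mulTwist_tmul, smul_one, mul_one])
  have htw₂ : ∀ g, inr ≫ tw g = CommRingCat.ofHom (MulSemiringAction.toRingHom G B g⁻¹) := fun g =>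
    CommRingCat.hom_ext (RingHom.ext fun b => by
      show QuotLib.mulTwist (A := A) g⁻¹ (1 ⊗ₜ b) = g⁻¹ • b
      rw [QuotLib.mulTwist_tmul, one_mul])
  let ζ : G → (C ⟶ P) := fun g => Over.homMk (Spec.map (tw g)) (by
    show Spec.map (tw g) ≫ Spec.map inl ≫ str = str
    rw [← Spec.map_comp_assoc, htw₁, Spec.map_id, Category.id_comp])
  have hiso : IsIso (Limits.Sigma.desc fun g => (ζ g).left) := by
    let Ψ : B ⊗[A] B →+* (G → B) := RingHom.pi fun g => (QuotLib.mulTwist (A := A) g⁻¹).toRingHom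
    have hΨ : Function.Bijective Ψ :=
      (Equiv.piCongrLeft' (fun _ : G => B) (Equiv.inv G)).bijective.comp (bijective_twists hfree)
    haveI : IsIso (CommRingCat.ofHom Ψ) := (ConcreteCategory.isIso_iff_bijective _).2 hΨ
    have h : Limits.Sigma.desc (fun g => (ζ g).left) =
        sigmaSpec (fun _ : G => CommRingCat.of B) ≫ Spec.map (CommRingCat.ofHom Ψ) := by
      refine Sigma.hom_ext _ _ fun g => ?_
      rw [Sigma.ι_desc, ← Category.assoc]
      erw [ι_sigmaSpec]
      rw [← Spec.map_comp]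
      rfl
    rw [h]
    infer_instance
  refine ⟨⟨P, π, σ, pr₁, pr₂, ζ, ?_, ?_, fun g => Over.OverMorphism.ext (hσπ g), ?_, ?_,
    Over.OverMorphism.ext sq.w, lift, hext, fun g => Over.OverMorphism.ext ?_, fun g => Over.OverMorphism.ext ?_,
    hiso⟩, rfl, fun g => rfl⟩
  · exact Over.OverMorphism.ext specAct_one
  · exact fun h k => Over.OverMorphism.ext (specAct_comp h k)
  · show Etale (Spec.map al)
    rw [HasRingHomProperty.Spec_iff (P := @Etale)]
    exact RingHom.etale_algebraMap.2 het
  · refine ⟨fun x => ?_⟩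
    have hint : (algebraMap A B).IsIntegral := algebraMap_isIntegral_iff.2 inferInstance
    exact hint.comap_surjective hinj x
  · show Spec.map (tw g) ≫ Spec.map inl = 𝟙 _
    rw [← Spec.map_comp, htw₁, Spec.map_id]
  · show Spec.map (tw g) ≫ Spec.map inr = specAct g
    rw [← Spec.map_comp, htw₂]

end Rings

end Groth.Agent.KPointChart
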