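import Groth.Agent.KPointChart.IsoDef
/-!
Elementary calculus of isomorphisms between values.
-/

set_option autoImplicit false
set_option backward.isDefEq.respectTransparency false
set_option backward.isDefEq.respectTransparency.types false
set_option linter.unusedSectionVars false

universe u

open CategoryTheory AlgebraicGeometry

namespace Groth.Agent.KPointChart

open Groth.Agent.ASt

namespace IsoG

variable {S : Scheme.{u}} {𝒳 : AlgSt.Cat S} [h𝒳 : FibCat.IsFibGrpd 𝒳.p] {U : Over S}
  {y : FibCat.overCat U ⥤ᵇ 𝒳} {T T' : Over S} {k k' k'' k''' : T ⟶ U} {l l' : T' ⟶ U}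

theorem res_id (b : IsoG y k k') : res (𝟙 T) (Category.id_comp k) (Category.id_comp k') b = b := by
  refine (eq_res _ _ _ b b ?_).symm
  have h : ∀ (x : T ⟶ U), ovHom (𝟙 T) (Category.id_comp x) = 𝟙 (ov x) := fun x => Over.OverMorphism.ext rfl
  rw [h, h, CategoryTheory.Functor.map_id, CategoryTheory.Functor.map_id, Category.id_comp, Category.comp_id]

theorem refl_trans (b : IsoG y k k') : (refl k).trans b = b := IsoG.ext (Category.id_comp _)

theorem trans_refl (b : IsoG y k k') : b.trans (refl k') = b := IsoG.ext (Category.comp_id _)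

theorem trans_assoc (b : IsoG y k k') (b' : IsoG y k' k'') (b'' : IsoG y k'' k''') :
    (b.trans b').trans b'' = b.trans (b'.trans b'') := IsoG.ext (Category.assoc _ _ _)

theorem symm_trans (b : IsoG y k k') : b.symm.trans b = refl k' := IsoG.ext (IsIso.inv_hom_id _)

theorem trans_symm (b : IsoG y k k') : b.trans b.symm = refl k := IsoG.ext (IsIso.hom_inv_id _)

theorem symm_refl : (refl (y := y) k).symm = refl k := IsoG.ext (by simp [symm, refl])

theorem eq_symm_trans (b : IsoG y k k') {b' : IsoG y k' k''} {b'' : IsoG y k k''} (h : b.trans b' = b'') :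
    b' = b.symm.trans b'' := by
  rw [← h, ← trans_assoc, symm_trans, refl_trans]

theorem eq_refl_of_idem {b : IsoG y k k} (h : b.trans b = b) : b = refl k :=
  (eq_symm_trans b h).trans (symm_trans b)

theorem res_symm (g : T' ⟶ T) (e : g ≫ k = l) (e' : g ≫ k' = l') (b : IsoG y k k') :
    res g e' e b.symm = (res g e e' b).symm := by
  have h := eq_symm_trans (res g e e' b) (b' := res g e' e b.symm) (b'' := refl l)
    (by rw [← res_trans, trans_symm, res_refl])
  rwa [trans_refl] at h

theorem trans_symm_eq_iff {b b' : IsoG y k k'} : b.trans b'.symm = refl k ↔ b = b' := by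
  refine ⟨fun h => ?_, fun h => h ▸ trans_symm b'⟩
  have := congrArg (·.trans b') h
  simpa only [trans_assoc, symm_trans, trans_refl, refl_trans] using this

end IsoG

end Groth.Agent.KPointChart
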