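import Groth.Agent.KPointChart.Iso
import Groth.Agent.KPointChart.IsoAlg
import Groth.Agent.KPointChart.Cover
import Groth.Agent.RepOne.Desc
/-!
Descent of values along coverings by free group actions.
-/

set_option autoImplicit false
set_option backward.isDefEq.respectTransparency false
set_option backward.isDefEq.respectTransparency.types false
set_option linter.unusedSectionVars false
set_option linter.style.haveILetI false

universe u

open CategoryTheory CategoryTheory.Limits AlgebraicGeometry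

namespace Groth.Agent.KPointChart

open Groth.Agent.ASt Groth.Agent.ASp Groth.Agent.RepOne

variable {S : Scheme.{u}} {𝒳 : AlgSt.Cat S} [h𝒳 : FibCat.IsFibGrpd 𝒳.p] {U : Over S}
  {a : FibCat.overCat U ⥤ᵇ 𝒳}

section Family

variable {G : Type u} [Group G] {C C₀ : Over S} (V : GCov C C₀ G) (u : C ⟶ U)

variable (a) in
/-- A family of isomorphisms between the values at two lifts of one morphism. -/
def Family := ∀ {T : Over S} (l l' : T ⟶ C), l ≫ V.π = l' ≫ V.π →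
  ∀ {w w' : T ⟶ U}, l ≫ u = w → l' ≫ u = w' → IsoG a w w'

variable {V u}

/-- Compatibility with restriction. -/
def Family.Natural (θ : Family a V u) : Prop :=
  ∀ {T T' : Over S} (j : T' ⟶ T) (l l' : T ⟶ C) (e : l ≫ V.π = l' ≫ V.π) {w w' : T ⟶ U} (hw : l ≫ u = w)
    (hw' : l' ≫ u = w') {v v' : T' ⟶ U} (hv : j ≫ w = v) (hv' : j ≫ w' = v'),
    IsoG.res j hv hv' (θ l l' e hw hw') =
      θ (j ≫ l) (j ≫ l') (by rw [Category.assoc, e, ← Category.assoc]) (by rw [Category.assoc, hw, hv])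
        (by rw [Category.assoc, hw', hv'])

theorem Family.Natural.hom {θ : Family a V u} (hn : θ.Natural) {T T' : Over S} (j : T' ⟶ T) {l l' : T ⟶ C}
    (e : l ≫ V.π = l' ≫ V.π) {w w' : T ⟶ U} (hw : l ≫ u = w) (hw' : l' ≫ u = w') {k k' : T' ⟶ C}
    (hk : j ≫ l = k) (hk' : j ≫ l' = k') (e' : k ≫ V.π = k' ≫ V.π) {v v' : T' ⟶ U} (hv : j ≫ w = v)
    (hv' : j ≫ w' = v') (g : k ≫ u = v) (g' : k' ≫ u = v') :
    (θ k k' e' g g').hom ≫ a.map (ovHom j hv') = a.map (ovHom j hv) ≫ (θ l l' e hw hw').hom := by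
  subst hk hk'
  rw [← hn j l l' e hw hw' hv hv', IsoG.res_comp]

/-- Families agreeing on the pieces agree. -/
theorem Family.eq_of_pieces (hd : AlgSt.RepByAlgSpWith AlgSp.IsSeparatedMor (FibCat.diag (FibCat.toSelf 𝒳)))
    {θ θ' : Family a V u} (hn : θ.Natural) (hn' : θ'.Natural)
    (hp : ∀ {T : Over S} (l : T ⟶ C) (g : G) {w w' : T ⟶ U} (hw : l ≫ u = w) (hw' : (l ≫ V.σ g) ≫ u = w'),
      θ l (l ≫ V.σ g) (by rw [Category.assoc, V.σ_π]) hw hw' = θ' l (l ≫ V.σ g) (by rw [Category.assoc, V.σ_π]) hw hw')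
    {T : Over S} (l l' : T ⟶ C) (e : l ≫ V.π = l' ≫ V.π) {w w' : T ⟶ U} (hw : l ≫ u = w) (hw' : l' ≫ u = w') :
    θ l l' e hw hw' = θ' l l' e hw hw' := by
  refine ext_loc hd fun t => ?_
  obtain ⟨O, g, ht, hO⟩ := V.exists_piece l l' e t
  refine ⟨O, ht, ?_⟩
  rw [hn, hn']
  have : ∀ (k : openOver O ⟶ C) (hk : k = (openInc O ≫ l) ≫ V.σ g) (e' : (openInc O ≫ l) ≫ V.π = k ≫ V.π)
      (h1 : (openInc O ≫ l) ≫ u = openInc O ≫ w) (h2 : k ≫ u = openInc O ≫ w'),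
      θ (openInc O ≫ l) k e' h1 h2 = θ' (openInc O ≫ l) k e' h1 h2 := by
    rintro k rfl e' h1 h2
    exact hp _ g h1 h2
  exact this _ (hO.trans (Category.assoc _ _ _).symm) _ _ _

/-- An equivariant isomorphism gives a family satisfying the cocycle condition. -/
theorem exists_family [Finite G] (ha : AlgSt.RepByAlgSp1 a)
    (hd : AlgSt.RepByAlgSpWith AlgSp.IsSeparatedMor (FibCat.diag (FibCat.toSelf 𝒳)))
    (Φ : ∀ g, IsoG a u (V.σ g ≫ u))
    (hΦ : ∀ g h, (Φ g).trans (IsoG.res (V.σ g) rfl (by rw [← Category.assoc, V.σ_mul]) (Φ h)) = Φ (h * g)) :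
    ∃ θ : Family a V u, θ.Natural ∧
      (∀ {T : Over S} (l l' l'' : T ⟶ C) (e : l ≫ V.π = l' ≫ V.π) (e' : l' ≫ V.π = l'' ≫ V.π) {w w' w'' : T ⟶ U}
        (hw : l ≫ u = w) (hw' : l' ≫ u = w') (hw'' : l'' ≫ u = w''),
        (θ l l' e hw hw').trans (θ l' l'' e' hw' hw'') = θ l l'' (e.trans e') hw hw'') ∧
      ∀ {T : Over S} (l : T ⟶ C) (g : G) {w w' : T ⟶ U} (hw : l ≫ u = w) (hw' : (l ≫ V.σ g) ≫ u = w'),
        θ l (l ≫ V.σ g) (by rw [Category.assoc, V.σ_π]) hw hw' =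
          IsoG.res l hw ((Category.assoc _ _ _).symm.trans hw') (Φ g) := by
  haveI := V.isIso_desc
  have hζ1 : ∀ g, V.ζ g ≫ V.pr₁ ≫ u = u := fun g => by rw [← Category.assoc, V.ζ_pr₁, Category.id_comp]
  have hζ2 : ∀ g, V.ζ g ≫ V.pr₂ ≫ u = V.σ g ≫ u := fun g => by rw [← Category.assoc, V.ζ_pr₂]
  obtain ⟨Θ, hΘ⟩ := exists_sigma_iso (a := a) ha (fun _ : G => C) V.ζ (k := V.pr₁ ≫ u) (k' := V.pr₂ ≫ u)
    (fun g => IsoG.res (𝟙 C) ((Category.id_comp u).trans (hζ1 g).symm) ((Category.id_comp _).trans (hζ2 g).symm) (Φ g))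
  choose L hL₁ hL₂ using fun {T : Over S} (l l' : T ⟶ C) => V.exists_lift l l'
  let θ : Family a V u := fun {T} l l' e {w w'} hw hw' =>
    IsoG.res (L l l' e) (by rw [← Category.assoc, hL₁, hw]) (by rw [← Category.assoc, hL₂, hw']) Θ
  have hn : θ.Natural := by
    intro T T' j l l' e w w' hw hw' v v' hv hv'
    refine IsoG.res_res_eq ?_ _ _ _ _ Θ
    refine V.hom_ext _ _ ?_ ?_
    · rw [Category.assoc, hL₁, hL₁]
    · rw [Category.assoc, hL₂, hL₂]
  have hpiece : ∀ {T : Over S} (l : T ⟶ C) (g : G) {w w' : T ⟶ U} (hw : l ≫ u = w)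
      (hw' : (l ≫ V.σ g) ≫ u = w'),
      θ l (l ≫ V.σ g) (by rw [Category.assoc, V.σ_π]) hw hw' =
        IsoG.res l hw ((Category.assoc _ _ _).symm.trans hw') (Φ g) := by
    intro T l g w w' hw hw'
    have h1 := congrArg (IsoG.res l (show l ≫ V.ζ g ≫ V.pr₁ ≫ u = w by rw [hζ1, hw])
      (show l ≫ V.ζ g ≫ V.pr₂ ≫ u = w' by rw [hζ2, ← Category.assoc, hw'])) (hΘ g)
    rw [IsoG.res_res_eq (Category.comp_id l)] at h1
    rw [← h1, IsoG.res_res_eq rfl]
    refine IsoG.res_congr ?_ _ _ Θ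
    refine V.hom_ext _ _ ?_ ?_
    · rw [hL₁, Category.assoc, V.ζ_pr₁, Category.comp_id]
    · rw [hL₂, Category.assoc, V.ζ_pr₂]
  refine ⟨θ, hn, fun {T} l l' l'' e e' {w w' w''} hw hw' hw'' => ?_, hpiece⟩
  refine ext_loc hd fun t => ?_
  obtain ⟨O₁, g, ht₁, hO₁⟩ := V.exists_piece l l' e t
  obtain ⟨O₂, h, ht₂, hO₂⟩ := V.exists_piece l' l'' e' t
  let O := O₁ ⊓ O₂
  have rst : ∀ (O' : T.left.Opens) (hle : O ≤ O') (m m' : T ⟶ C) (x : G),
      openInc O' ≫ m' = openInc O' ≫ m ≫ V.σ x → openInc O ≫ m' = (openInc O ≫ m) ≫ V.σ x := by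
    intro O' hle m m' x hx
    let j : openOver O ⟶ openOver O' := Over.homMk (T.left.homOfLE hle) (by
      show T.left.homOfLE hle ≫ O'.ι ≫ T.hom = O.ι ≫ T.hom
      rw [← Category.assoc, Scheme.homOfLE_ι])
    have hj : j ≫ openInc O' = openInc O := Over.OverMorphism.ext (Scheme.homOfLE_ι _ hle)
    rw [Category.assoc, ← hj, Category.assoc, Category.assoc, hx]
  refine ⟨O, ⟨ht₁, ht₂⟩, ?_⟩
  rw [IsoG.res_trans (openInc O) rfl rfl rfl, hn _ l l' e hw hw', hn _ l' l'' e' hw' hw'',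
    hn _ l l'' (e.trans e') hw hw'']
  have key : ∀ (k k' k'' : openOver O ⟶ C) (_ : k' = k ≫ V.σ g) (_ : k'' = k' ≫ V.σ h)
      (c : k ≫ V.π = k' ≫ V.π) (c' : k' ≫ V.π = k'' ≫ V.π) (c'' : k ≫ V.π = k'' ≫ V.π) (x₀ x₁ x₂ : openOver O ⟶ U)
      (f₀ : k ≫ u = x₀) (f₁ : k' ≫ u = x₁) (f₂ : k'' ≫ u = x₂),
      (θ k k' c f₀ f₁).trans (θ k' k'' c' f₁ f₂) = θ k k'' c'' f₀ f₂ := by
    rintro k _ _ rfl rfl c c' c'' x₀ x₁ x₂ f₀ f₁ f₂
    have e3 : ∀ (m : openOver O ⟶ C) (_ : m = k ≫ V.σ (h * g)) (c₃ : k ≫ V.π = m ≫ V.π) (f₃ : m ≫ u = x₂),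
        θ k m c₃ f₀ f₃ = IsoG.res k f₀ (show k ≫ V.σ (h * g) ≫ u = x₂ by
          rw [← V.σ_mul, Category.assoc, ← f₂]; simp only [Category.assoc]) (Φ (h * g)) := by
      rintro m rfl c₃ f₃
      exact hpiece k (h * g) f₀ f₃
    rw [hpiece k g f₀ f₁, hpiece (k ≫ V.σ g) h f₁ f₂, e3 _ (by rw [Category.assoc, V.σ_mul]) c'' f₂, ← hΦ g h,
      IsoG.res_trans k f₀ ((Category.assoc _ _ _).symm.trans f₁), IsoG.res_res_eq rfl]
  exact key _ _ _ (rst O₁ inf_le_left l l' g hO₁) (rst O₂ inf_le_right l' l'' h hO₂) _ _ _ _ _ _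
    (by rw [Category.assoc, hw]) (by rw [Category.assoc, hw']) (by rw [Category.assoc, hw''])

end Family

/-- The sieve of morphisms factoring through `π`. -/
def facSv {T T' : Over S} (π : T' ⟶ T) : Sieve T where
  arrows W g := ∃ l, l ≫ π = g
  downward_closed := fun {W W'} g ⟨l, hl⟩ k => ⟨k ≫ l, by rw [Category.assoc, hl]⟩

/-- Values glue along a covering by a free action. -/
theorem exists_descend {G : Type u} [Group G] {C C₀ : Over S} {V : GCov C C₀ G} {u : C ⟶ U}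
    (hglue : SGlue (facSv V.π) 𝒳) {θ : Family a V u} (hn : θ.Natural)
    (hc : ∀ {T : Over S} (l l' l'' : T ⟶ C) (e : l ≫ V.π = l' ≫ V.π) (e' : l' ≫ V.π = l'' ≫ V.π) {w w' w'' : T ⟶ U}
      (hw : l ≫ u = w) (hw' : l' ≫ u = w') (hw'' : l'' ≫ u = w''),
      (θ l l' e hw hw').trans (θ l' l'' e' hw' hw'') = θ l l'' (e.trans e') hw hw'') :
    ∃ (p : FibCat.overCat C₀ ⥤ᵇ 𝒳) (γ : ∀ {T : Over S} (l : T ⟶ C) {w : T ⟶ U} {m : T ⟶ C₀},
        l ≫ u = w → l ≫ V.π = m → (a.obj (ov w) ⟶ p.obj (ov m))),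
      (∀ {T : Over S} (l : T ⟶ C) {w : T ⟶ U} {m : T ⟶ C₀} (hw : l ≫ u = w) (hm : l ≫ V.π = m),
        𝒳.p.map (γ l hw hm) = eqToHom ((base_eq a w).trans (base_eq p m).symm)) ∧
      (∀ {T T' : Over S} (j : T' ⟶ T) (l : T ⟶ C) {w : T ⟶ U} {m : T ⟶ C₀} (hw : l ≫ u = w) (hm : l ≫ V.π = m)
        {l' : T' ⟶ C} (hl : j ≫ l = l') {w' : T' ⟶ U} {m' : T' ⟶ C₀} (ew : j ≫ w = w') (em : j ≫ m = m')
        (hw' : l' ≫ u = w') (hm' : l' ≫ V.π = m'),
        γ l' hw' hm' ≫ p.map (ovHom j em) = a.map (ovHom j ew) ≫ γ l hw hm) ∧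
      ∀ {T : Over S} (l l' : T ⟶ C) (e : l ≫ V.π = l' ≫ V.π) {w w' : T ⟶ U} {m : T ⟶ C₀} (hw : l ≫ u = w)
        (hw' : l' ≫ u = w') (hm : l ≫ V.π = m) (hm' : l' ≫ V.π = m),
        (θ l l' e hw hw').hom ≫ γ l' hw' hm' = γ l hw hm := by
  let R := facSv V.π
  have hself : ∀ {T : Over S} (l : T ⟶ C) {w : T ⟶ U} (hw : l ≫ u = w), θ l l rfl hw hw = IsoG.refl w :=
    fun l w hw => IsoG.eq_refl_of_idem (hc l l l rfl rfl hw hw hw)
  choose L hL using fun s : (Stk.sieveCat R).obj => s.property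
  let W : ∀ s : (Stk.sieveCat R).obj, s.obj.left ⟶ U := fun s => L s ≫ u
  have hLm : ∀ {s t : (Stk.sieveCat R).obj} (n : s ⟶ t), L s ≫ V.π = (n.hom.left ≫ L t) ≫ V.π := fun {s t} n => by
    rw [Category.assoc, hL, hL]
    exact (Over.w n.hom).symm
  let Dm : ∀ {s t : (Stk.sieveCat R).obj} (n : s ⟶ t), a.obj (ov (W s)) ⟶ a.obj (ov (W t)) := fun {s t} n =>
    (θ (L s) (n.hom.left ≫ L t) (hLm n) rfl (Category.assoc _ _ _)).hom ≫
      a.map (ovHom n.hom.left (rfl : n.hom.left ≫ W t = _))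
  have map_Dm : ∀ {s t : (Stk.sieveCat R).obj} (n : s ⟶ t), 𝒳.p.map (Dm n) =
      eqToHom (base_eq a (W s)) ≫ n.hom.left ≫ eqToHom (base_eq a (W t)).symm := fun {s t} n => by
    simp only [Dm, Functor.map_comp, IsoG.vert, map_w, ov_p_map]
    simp
  have Dm_id : ∀ s : (Stk.sieveCat R).obj, Dm (𝟙 s) = 𝟙 _ := fun s => by
    have key : ∀ (j : s.obj.left ⟶ s.obj.left) (_ : j = 𝟙 _) (k : s.obj.left ⟶ C) (hk : j ≫ L s = k)
        (e : L s ≫ V.π = k ≫ V.π) (w : s.obj.left ⟶ U) (hw : k ≫ u = w) (ew : j ≫ W s = w),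
        (θ (L s) k e rfl hw).hom ≫ a.map (ovHom j ew) = 𝟙 _ := by
      rintro j rfl k hk e w hw ew
      obtain rfl : k = L s := hk.symm.trans (Category.id_comp _)
      obtain rfl : w = W s := hw.symm
      rw [hself, show ovHom (𝟙 _) ew = 𝟙 (ov (W s)) from Over.OverMorphism.ext rfl,
        CategoryTheory.Functor.map_id]
      exact Category.id_comp _
    exact key _ rfl _ rfl _ _ _ rfl
  have Dm_comp : ∀ {s t r : (Stk.sieveCat R).obj} (n : s ⟶ t) (n' : t ⟶ r), Dm (n ≫ n') = Dm n ≫ Dm n' := by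
    intro s t r n n'
    have hcomp : (n ≫ n').hom.left = n.hom.left ≫ n'.hom.left := rfl
    have hk2 : n.hom.left ≫ n'.hom.left ≫ L r = (n ≫ n').hom.left ≫ L r := by rw [hcomp, Category.assoc]
    have hw2 : n.hom.left ≫ n'.hom.left ≫ W r = (n ≫ n').hom.left ≫ W r := by rw [hcomp, Category.assoc]
    have h1 := hn.hom n.hom.left (hLm n') (rfl : L t ≫ u = W t) (Category.assoc _ _ _) rfl hk2
      (by rw [← hk2, Category.assoc, hLm n']; simp only [Category.assoc]) rfl hw2 (Category.assoc _ _ _)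
      (by simp only [W, Category.assoc])
    simp only [Dm, Category.assoc]
    rw [← reassoc_of% h1, ← hc (L s) (n.hom.left ≫ L t) ((n ≫ n').hom.left ≫ L r) (hLm n)
        (by rw [← hk2, Category.assoc, hLm n']; simp only [Category.assoc]) rfl (Category.assoc _ _ _)
        (by simp only [W, Category.assoc]), IsoG.trans, Category.assoc, ← Functor.map_comp]
    congr 2
  let D : Stk.sieveCat R ⥤ᵇ 𝒳 :=
    { toFunctor :=
        { obj := fun s => a.obj (ov (W s))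
          map := fun n => Dm n
          map_id := Dm_id
          map_comp := fun n n' => Dm_comp n n' }
      w := CategoryTheory.Functor.ext (F := _ ⋙ 𝒳.p) (G := (Stk.sieveCat R).p) (fun s => base_eq a (W s))
        (fun s t n => map_Dm n) }
  obtain ⟨c⟩ := hglue D
  let p := objFun c.pt c.base
  let mem : ∀ {T : Over S} (l : T ⟶ C) {m : T ⟶ C₀}, l ≫ V.π = m → (Stk.sieveCat R).obj :=
    fun {T} l {m} hm => ⟨Over.mk m, l, hm⟩
  let raw : ∀ {T : Over S} (l : T ⟶ C) {w : T ⟶ U} {m : T ⟶ C₀}, l ≫ u = w → l ≫ V.π = m →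
      (a.obj (ov w) ⟶ c.pt) :=
    fun {T} l {w m} hw hm => (θ l (L (mem l hm)) (hm.trans (hL (mem l hm)).symm) hw rfl).hom ≫ c.ι (mem l hm)
  have map_raw : ∀ {T : Over S} (l : T ⟶ C) {w : T ⟶ U} {m : T ⟶ C₀} (hw : l ≫ u = w) (hm : l ≫ V.π = m),
      𝒳.p.map (raw l hw hm) = eqToHom (base_eq a w) ≫ m ≫ eqToHom c.base.symm := fun {T} l {w m} hw hm => by
    simp only [raw, Functor.map_comp, IsoG.vert, c.map_ι]
    simp [mem]
  let γ : ∀ {T : Over S} (l : T ⟶ C) {w : T ⟶ U} {m : T ⟶ C₀}, l ≫ u = w → l ≫ V.π = m →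
      (a.obj (ov w) ⟶ p.obj (ov m)) := fun {T} l {w m} hw hm =>
    facMap (pullHom c.pt c.base m) (raw l hw hm) (eqToHom ((base_eq a w).trans (base_eq p m).symm)) (by
      rw [map_pullHom, map_raw l hw hm]; simp)
  have map_γ : ∀ {T : Over S} (l : T ⟶ C) {w : T ⟶ U} {m : T ⟶ C₀} (hw : l ≫ u = w) (hm : l ≫ V.π = m),
      𝒳.p.map (γ l hw hm) = eqToHom ((base_eq a w).trans (base_eq p m).symm) :=
    fun {T} l {w m} hw hm => map_facMap _ _ _ _
  have γ_comp : ∀ {T : Over S} (l : T ⟶ C) {w : T ⟶ U} {m : T ⟶ C₀} (hw : l ≫ u = w) (hm : l ≫ V.π = m),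
      γ l hw hm ≫ pullHom c.pt c.base m = raw l hw hm := fun {T} l {w m} hw hm => facMap_comp _ _ _ _
  refine ⟨p, γ, map_γ, ?_, ?_⟩
  · intro T T' j l w m hw hm l' hl w' m' ew em hw' hm'
    subst hl
    refine hom_ext (pullHom c.pt c.base m) ?_ ?_
    · rw [Functor.map_comp, Functor.map_comp, map_γ _ hw' hm', map_γ _ hw hm, map_w, map_w, ov_p_map, ov_p_map]
      simp
    · have h1 : p.map (ovHom j em) ≫ pullHom c.pt c.base m = pullHom c.pt c.base m' := objMap_comp _ _ _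
      rw [Category.assoc, Category.assoc, h1, γ_comp _ hw' hm', γ_comp _ hw hm]
      let s := mem l hm
      let s' := mem (j ≫ l) hm'
      let n : s' ⟶ s := ObjectProperty.homMk (Over.homMk j em)
      have h2 : Dm n ≫ c.ι s = c.ι s' := c.nat n
      have hs : (Stk.sieveCat R).p.obj s' = T' := rfl
      have hls : L s ≫ V.π = m := hL s
      have h3 := hn.hom (θ := θ) j (hm.trans hls.symm) hw rfl rfl rfl
        (by rw [Category.assoc, Category.assoc, hm, hls]) ew rfl hw' (Category.assoc _ _ _)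
      simp only [raw]
      rw [← Category.assoc (a.map _), ← h3, ← h2]
      simp only [Dm, Category.assoc]
      rw [← Category.assoc]
      congr 1
      exact congrArg IsoG.hom (hc (j ≫ l) (L s') (j ≫ L s) (hm'.trans (hL s').symm) (hLm n) hw' rfl
        (Category.assoc _ _ _))
  · intro T l l' e w w' m hw hw' hm hm'
    refine hom_ext (pullHom c.pt c.base m) ?_ ?_
    · rw [Functor.map_comp, map_γ _ hw' hm', map_γ _ hw hm, IsoG.vert]
      simp
    · rw [Category.assoc, γ_comp _ hw' hm', γ_comp _ hw hm]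
      simp only [raw]
      rw [← Category.assoc]
      congr 1
      exact congrArg IsoG.hom (hc l l' (L (mem l hm)) e (hm'.trans (hL (mem l hm)).symm) hw hw' rfl)

/-- A compatible family of vertical morphisms gives an isomorphism. -/
theorem exists_iso_of_family {T₀ T' : Over S} (π : T' ⟶ T₀) (huniq : SConeUniq (facSv π) 𝒳)
    (z z' : FibCat.overCat T₀ ⥤ᵇ 𝒳)
    (f : ∀ {T : Over S} (l : T ⟶ T') {m : T ⟶ T₀}, l ≫ π = m → (z.obj (ov m) ⟶ z'.obj (ov m)))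
    (hf : ∀ {T : Over S} (l : T ⟶ T') {m : T ⟶ T₀} (h : l ≫ π = m),
      𝒳.p.map (f l h) = eqToHom ((base_eq z m).trans (base_eq z' m).symm))
    (hnat : ∀ {T T'' : Over S} (j : T'' ⟶ T) (l : T ⟶ T') {m : T ⟶ T₀} (h : l ≫ π = m) {m' : T'' ⟶ T₀}
      (em : j ≫ m = m') (h' : (j ≫ l) ≫ π = m'),
      f (j ≫ l) h' ≫ z'.map (ovHom j em) = z.map (ovHom j em) ≫ f l h)
    (hind : ∀ {T : Over S} (l l' : T ⟶ T') {m : T ⟶ T₀} (h : l ≫ π = m) (h' : l' ≫ π = m), f l h = f l' h') :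
    Nonempty (z ≅ z') := by
  let R := facSv π
  choose L hL using fun s : (Stk.sieveCat R).obj => s.property
  let c := coneOf (R := R) z
  let c' : SCone ((Stk.resSieve R 𝒳).obj z) :=
    { pt := z'.obj (ov (𝟙 T₀))
      base := z'.w_obj _
      ι := fun s => f (L s) (hL s) ≫ z'.map (toTop s.obj)
      map_ι := fun s => by
        rw [Functor.map_comp, hf]; erw [map_w, ov_p_map]
        simp [toTop]
      nat := fun {s t} n => by
        change z.map n.hom ≫ f (L t) (hL t) ≫ z'.map (toTop t.obj) = f (L s) (hL s) ≫ z'.map (toTop s.obj)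
        have hm : n.hom.left ≫ t.obj.hom = s.obj.hom := Over.w n.hom
        have h1 := hnat n.hom.left (L t) (hL t) hm (by rw [Category.assoc, hL]; exact hm)
        rw [hind _ (L s) _ (hL s)] at h1
        have e1 : z.map n.hom = z.map (ovHom n.hom.left hm) := congrArg (fun k => z.map k) (Over.OverMorphism.ext rfl)
        rw [e1, ← reassoc_of% h1, ← Functor.map_comp]
        exact congrArg (fun k => f (L s) (hL s) ≫ z'.map k) (Over.OverMorphism.ext hm) }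
  obtain ⟨h, ⟨hh, -⟩, -⟩ := huniq _ c c'
  exact ⟨funIso h hh⟩

end Groth.Agent.KPointChart
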