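import Groth.Agent.KPointChart.Point
import Groth.Agent.KPointChart.Desc
/-!
The differences of the lifts of a value along a covering.
-/

set_option autoImplicit false
set_option backward.isDefEq.respectTransparency false
set_option backward.isDefEq.respectTransparency.types false
set_option linter.unusedSectionVars false
set_option linter.style.haveILetI false

universe u

open CategoryTheory CategoryTheory.Limits AlgebraicGeometry

namespace Groth.Agent.KPointChart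

open Groth.Agent.ASt

variable {S : Scheme.{u}} {𝒳 : AlgSt.Cat S} [h𝒳 : FibCat.IsFibGrpd 𝒳.p]

/-- A value whose pullback to a covering is a value of a chart gives a descent family. -/
theorem exists_diff {G : Type u} [Group G] {P K U : Over S} {V : GCov P K G} (x : FibCat.overCat K ⥤ᵇ 𝒳)
    (a : FibCat.overCat U ⥤ᵇ 𝒳) (u₀ : P ⟶ U) (φ₀ : x.obj (ov V.π) ⟶ a.obj (ov u₀))
    (hφ₀ : 𝒳.p.map φ₀ = eqToHom ((base_eq x V.π).trans (base_eq a u₀).symm)) :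
    ∃ (δ : Family a V u₀) (ψ : ∀ {T : Over S} (l : T ⟶ P) {w : T ⟶ U} {m : T ⟶ K}, l ≫ u₀ = w → l ≫ V.π = m →
        (x.obj (ov m) ⟶ a.obj (ov w))),
      δ.Natural ∧
      (∀ {T : Over S} (l l' l'' : T ⟶ P) (e : l ≫ V.π = l' ≫ V.π) (e' : l' ≫ V.π = l'' ≫ V.π)
        {w w' w'' : T ⟶ U} (hw : l ≫ u₀ = w) (hw' : l' ≫ u₀ = w') (hw'' : l'' ≫ u₀ = w''),
        (δ l l' e hw hw').trans (δ l' l'' e' hw' hw'') = δ l l'' (e.trans e') hw hw'') ∧
      (∀ {T : Over S} (l : T ⟶ P) {w : T ⟶ U} {m : T ⟶ K} (hw : l ≫ u₀ = w) (hm : l ≫ V.π = m),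
        𝒳.p.map (ψ l hw hm) = eqToHom ((base_eq x m).trans (base_eq a w).symm)) ∧
      (∀ {T T' : Over S} (j : T' ⟶ T) (l : T ⟶ P) {w : T ⟶ U} {m : T ⟶ K} (hw : l ≫ u₀ = w) (hm : l ≫ V.π = m)
        {l' : T' ⟶ P} (hl : j ≫ l = l') {w' : T' ⟶ U} {m' : T' ⟶ K} (ew : j ≫ w = w') (em : j ≫ m = m')
        (hw' : l' ≫ u₀ = w') (hm' : l' ≫ V.π = m'),
        ψ l' hw' hm' ≫ a.map (ovHom j ew) = x.map (ovHom j em) ≫ ψ l hw hm) ∧
      ∀ {T : Over S} (l l' : T ⟶ P) (e : l ≫ V.π = l' ≫ V.π) {w w' : T ⟶ U} {m : T ⟶ K}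
        (hw : l ≫ u₀ = w) (hw' : l' ≫ u₀ = w') (hm : l ≫ V.π = m) (hm' : l' ≫ V.π = m),
        ψ l hw hm ≫ (δ l l' e hw hw').hom = ψ l' hw' hm' := by
  obtain ⟨ψ, ψ_map, ψ_nat⟩ := exists_psi x a V.π u₀ φ₀ hφ₀
  have ψ_iso : ∀ {T : Over S} (l : T ⟶ P) {w : T ⟶ U} {m : T ⟶ K} (hw : l ≫ u₀ = w) (hm : l ≫ V.π = m),
      IsIso (ψ l hw hm) := fun {T} l {w m} hw hm => isIso_of_vert _ (ψ_map l hw hm)
  let δ : Family a V u₀ := fun {T} l l' e {w w'} hw hw' =>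
    haveI := ψ_iso l hw (rfl : l ≫ V.π = _)
    ⟨inv (ψ l hw rfl) ≫ ψ l' hw' e.symm, by
      rw [Functor.map_comp, Functor.map_inv, ψ_map l' hw' e.symm]
      simp [ψ_map l hw rfl]⟩
  have δ_spec : ∀ {T : Over S} (l l' : T ⟶ P) (e : l ≫ V.π = l' ≫ V.π) {w w' : T ⟶ U} {m : T ⟶ K}
      (hw : l ≫ u₀ = w) (hw' : l' ≫ u₀ = w') (hm : l ≫ V.π = m) (hm' : l' ≫ V.π = m),
      ψ l hw hm ≫ (δ l l' e hw hw').hom = ψ l' hw' hm' := by
    intro T l l' e w w' m hw hw' hm hm'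
    subst hm
    haveI := ψ_iso l hw (rfl : l ≫ V.π = _)
    exact IsIso.hom_inv_id_assoc (ψ l hw rfl) _
  have δ_nat : δ.Natural := by
    intro T T' j l l' e w w' hw hw' v v' hv hv'
    have hl : (j ≫ l) ≫ u₀ = v := by rw [Category.assoc, hw, hv]
    have hl' : (j ≫ l') ≫ u₀ = v' := by rw [Category.assoc, hw', hv']
    have e' : (j ≫ l) ≫ V.π = (j ≫ l') ≫ V.π := by rw [Category.assoc, e, Category.assoc]
    refine (IsoG.eq_res j hv hv' (δ l l' e hw hw') (δ (j ≫ l) (j ≫ l') e' hl hl') ?_).symm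
    haveI := ψ_iso (j ≫ l) hl (rfl : (j ≫ l) ≫ V.π = _)
    rw [← cancel_epi (ψ (j ≫ l) hl rfl)]
    refine ((Category.assoc _ _ _).symm.trans (congrArg (fun t => t ≫ a.map (ovHom j hv'))
      (δ_spec _ _ e' hl hl' rfl e'.symm))).trans ?_
    have em : j ≫ l ≫ V.π = (j ≫ l) ≫ V.π := (Category.assoc _ _ _).symm
    refine (ψ_nat j l' hw' e.symm rfl hv' em hl' e'.symm).trans ?_
    refine Eq.trans ?_ (Category.assoc _ _ _)
    rw [ψ_nat j l hw rfl rfl hv em hl rfl]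
    exact ((Category.assoc _ _ _).trans (congrArg (fun t => x.map (ovHom j em) ≫ t) (δ_spec l l' e hw hw' rfl e.symm))).symm
  have δ_trans : ∀ {T : Over S} (l l' l'' : T ⟶ P) (e : l ≫ V.π = l' ≫ V.π) (e' : l' ≫ V.π = l'' ≫ V.π)
      {w w' w'' : T ⟶ U} (hw : l ≫ u₀ = w) (hw' : l' ≫ u₀ = w') (hw'' : l'' ≫ u₀ = w''),
      (δ l l' e hw hw').trans (δ l' l'' e' hw' hw'') = δ l l'' (e.trans e') hw hw'' := by
    intro T l l' l'' e e' w w' w'' hw hw' hw''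
    apply IsoG.ext
    haveI := ψ_iso l hw (rfl : l ≫ V.π = _)
    show (δ l l' e hw hw').hom ≫ (δ l' l'' e' hw' hw'').hom = _
    rw [← cancel_epi (ψ l hw rfl), ← Category.assoc, δ_spec l l' e hw hw' rfl e.symm,
      δ_spec l' l'' e' hw' hw'' e.symm (e.trans e').symm, δ_spec l l'' (e.trans e') hw hw'' rfl (e.trans e').symm]
  exact ⟨δ, ψ, δ_nat, δ_trans, ψ_map, ψ_nat, δ_spec⟩

end Groth.Agent.KPointChart
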