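import Groth.Agent.ASt.DiagLft
import Groth.Agent.ASt.OverMapRep
import Groth.Agent.ASt.Local
import Groth.Agent.SmoothSliceLib.SepPoint
import Groth.Agent.KPointChart.IsoDef
/-!
A point over a field lifts to an affine chart after a finite Galois extension.
-/

set_option autoImplicit false
set_option backward.isDefEq.respectTransparency false
set_option backward.isDefEq.respectTransparency.types false
set_option linter.unusedSectionVars false
set_option linter.style.haveILetI false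

universe u

open CategoryTheory CategoryTheory.Limits AlgebraicGeometry

namespace Groth.Agent.KPointChart

open Groth.Agent.ASt Groth.Agent.ASp

variable {S : Scheme.{u}} {𝒳 : AlgSt.Cat S} [h𝒳 : FibCat.IsFibGrpd 𝒳.p]

/-- A vertical morphism between two values extends compatibly to all their restrictions. -/
theorem exists_psi {K P U : Over S} (x : FibCat.overCat K ⥤ᵇ 𝒳) (a : FibCat.overCat U ⥤ᵇ 𝒳) (π : P ⟶ K)
    (u₀ : P ⟶ U) (φ₀ : x.obj (ov π) ⟶ a.obj (ov u₀))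
    (hφ₀ : 𝒳.p.map φ₀ = eqToHom ((base_eq x π).trans (base_eq a u₀).symm)) :
    ∃ ψ : ∀ {T : Over S} (l : T ⟶ P) {w : T ⟶ U} {m : T ⟶ K}, l ≫ u₀ = w → l ≫ π = m →
        (x.obj (ov m) ⟶ a.obj (ov w)),
      (∀ {T : Over S} (l : T ⟶ P) {w : T ⟶ U} {m : T ⟶ K} (hw : l ≫ u₀ = w) (hm : l ≫ π = m),
        𝒳.p.map (ψ l hw hm) = eqToHom ((base_eq x m).trans (base_eq a w).symm)) ∧
      ∀ {T T' : Over S} (j : T' ⟶ T) (l : T ⟶ P) {w : T ⟶ U} {m : T ⟶ K} (hw : l ≫ u₀ = w) (hm : l ≫ π = m)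
        {l' : T' ⟶ P} (hl : j ≫ l = l') {w' : T' ⟶ U} {m' : T' ⟶ K} (ew : j ≫ w = w') (em : j ≫ m = m')
        (hw' : l' ≫ u₀ = w') (hm' : l' ≫ π = m'),
        ψ l' hw' hm' ≫ a.map (ovHom j ew) = x.map (ovHom j em) ≫ ψ l hw hm := by
  let ψ : ∀ {T : Over S} (l : T ⟶ P) {w : T ⟶ U} {m : T ⟶ K}, l ≫ u₀ = w → l ≫ π = m →
      (x.obj (ov m) ⟶ a.obj (ov w)) := fun {T} l {w m} hw hm =>
    facMap (a.map (ovHom l hw)) (x.map (ovHom l hm) ≫ φ₀) (eqToHom ((base_eq x m).trans (base_eq a w).symm))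
      (by simp [map_w, hφ₀, ov_p_map])
  have ψ_comp : ∀ {T : Over S} (l : T ⟶ P) {w : T ⟶ U} {m : T ⟶ K} (hw : l ≫ u₀ = w) (hm : l ≫ π = m),
      ψ l hw hm ≫ a.map (ovHom l hw) = x.map (ovHom l hm) ≫ φ₀ := fun {T} l {w m} hw hm => facMap_comp _ _ _ _
  have ψ_map : ∀ {T : Over S} (l : T ⟶ P) {w : T ⟶ U} {m : T ⟶ K} (hw : l ≫ u₀ = w) (hm : l ≫ π = m),
      𝒳.p.map (ψ l hw hm) = eqToHom ((base_eq x m).trans (base_eq a w).symm) :=
    fun {T} l {w m} hw hm => map_facMap _ _ _ _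
  refine ⟨ψ, ψ_map, ?_⟩
  intro T T' j l w m hw hm l' hl w' m' ew em hw' hm'
  subst hl
  refine hom_ext (a.map (ovHom l hw)) ?_ ?_
  · simp [map_w, ψ_map, ov_p_map]
  · have e1 : ovHom j ew ≫ ovHom l hw = ovHom (j ≫ l) hw' := Over.OverMorphism.ext rfl
    have e2 : ovHom j em ≫ ovHom l hm = ovHom (j ≫ l) hm' := Over.OverMorphism.ext rfl
    rw [Category.assoc, Category.assoc, ← Functor.map_comp, e1, ψ_comp _ hw' hm', ψ_comp _ hw hm,
      ← Category.assoc, ← Functor.map_comp, e2]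

/-- A point over a field lifts, after a finite Galois extension, to an affine open of an atlas lying over an affine
open of the base. -/
theorem exists_point (hat : AlgSt.HasAtlas (AlgSp.LocP @Smooth) 𝒳) (k : Type u) [Field k]
    (sk : Spec (CommRingCat.of k) ⟶ S) (x : FibCat.overCat (Over.mk sk) ⥤ᵇ 𝒳) :
    ∃ (L : Type u) (_ : Field L) (_ : Algebra k L) (_ : FiniteDimensional k L) (_ : IsGalois k L) (U : Over S)
      (_ : IsAffine U.left) (a : FibCat.overCat U ⥤ᵇ 𝒳) (S₀ : S.Opens) (_ : IsAffineOpen S₀) (h₀ : U.left ⟶ S₀)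
      (π : Over.mk (Spec.map (CommRingCat.ofHom (algebraMap k L)) ≫ sk) ⟶ Over.mk sk)
      (u₀ : Over.mk (Spec.map (CommRingCat.ofHom (algebraMap k L)) ≫ sk) ⟶ U)
      (φ₀ : x.obj (ov π) ⟶ a.obj (ov u₀)),
      π.left = Spec.map (CommRingCat.ofHom (algebraMap k L)) ∧ h₀ ≫ S₀.ι = U.hom ∧
        AlgSt.RepByAlgSpWith (AlgSp.LocP @Smooth) a ∧
        𝒳.p.map φ₀ = eqToHom ((base_eq x π).trans (base_eq a u₀).symm) := by
  obtain ⟨W₀, a₀, ha, has⟩ := hat
  obtain ⟨V, l, hl, hls, u, φ, hφ⟩ := exists_lift_atlas ha has x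
  haveI := hl
  haveI := hls
  obtain ⟨v, -⟩ := Surjective.surj (f := l.left) (default : PrimeSpectrum k)
  obtain ⟨S₀, hS₀, hsS₀, -⟩ := exists_isAffineOpen_mem_and_subset (x := W₀.hom (u.left v)) (U := ⊤) trivial
  obtain ⟨U', hU', huU', hU'S⟩ := exists_isAffineOpen_mem_and_subset (x := u.left v) (U := W₀.hom ⁻¹ᵁ S₀) hsS₀
  obtain ⟨L₀, _, _, σ, hfin, hsep, hσf, hσ⟩ :=
    SmoothSliceLib.exists_spec_point_field k l.left (u.left ⁻¹ᵁ U') v huU'
  haveI := hfin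
  haveI := hsep
  let e₀ : L₀ →ₐ[k] SeparableClosure k := IsSepClosed.lift
  haveI : FiniteDimensional k e₀.fieldRange := Module.Finite.equiv (AlgEquiv.ofInjectiveField e₀).toLinearEquiv
  let L := IntermediateField.normalClosure k e₀.fieldRange (SeparableClosure k)
  let e : L₀ →ₐ[k] L := AlgHom.codRestrict e₀ L.toSubalgebra
    (fun y => IntermediateField.le_normalClosure _ ⟨y, rfl⟩)
  let σ' : Spec (CommRingCat.of L) ⟶ V.left := Spec.map (CommRingCat.ofHom e.toRingHom) ≫ σ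
  have hσ' : σ' ≫ l.left = Spec.map (CommRingCat.ofHom (algebraMap k L)) := by
    show (Spec.map _ ≫ σ) ≫ l.left = _
    rw [Category.assoc, hσf, ← Spec.map_comp]
    congr 1
    exact CommRingCat.hom_ext e.comp_algebraMap
  let strL : Spec (CommRingCat.of L) ⟶ S := Spec.map (CommRingCat.ofHom (algebraMap k L)) ≫ sk
  let π : Over.mk strL ⟶ Over.mk sk := Over.homMk (Spec.map (CommRingCat.ofHom (algebraMap k L))) rfl
  let σv : Over.mk strL ⟶ V := Over.homMk σ' (by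
    show σ' ≫ V.hom = strL
    rw [← Over.w l, ← Category.assoc, hσ']
    rfl)
  have hσl : σv ≫ l = π := Over.OverMorphism.ext hσ'
  let U : Over S := Over.mk (U'.ι ≫ W₀.hom)
  let ι : U ⟶ W₀ := Over.homMk U'.ι rfl
  haveI : IsAffine U.left := hU'
  have hrange : Set.range (σ' ≫ u.left) ⊆ Set.range U'.ι := by
    rintro _ ⟨o, rfl⟩
    rw [Scheme.Opens.range_ι]
    exact hσ _
  let u₀ : Over.mk strL ⟶ U := Over.homMk (IsOpenImmersion.lift U'.ι (σ' ≫ u.left) hrange) (by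
    show _ ≫ U'.ι ≫ W₀.hom = strL
    rw [← Category.assoc, IsOpenImmersion.lift_fac, Category.assoc, Over.w u]
    exact Over.w σv)
  have hu₀ : σv ≫ u = u₀ ≫ ι := Over.OverMorphism.ext (IsOpenImmersion.lift_fac _ _ _).symm
  let a : FibCat.overCat U ⥤ᵇ 𝒳 := BasedFunctor.comp (AlgSt.overMap ι) a₀
  have hr : Set.range (U'.ι ≫ W₀.hom) ⊆ Set.range S₀.ι := by
    rintro _ ⟨o, rfl⟩
    rw [Scheme.Opens.range_ι]
    exact hU'S o.2
  let φ₀ : x.obj (ov π) ⟶ a.obj (ov u₀) := facMap (a₀.map (ovHom σv hu₀)) (x.map (ovHom σv hσl) ≫ φ)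
    (eqToHom ((base_eq x π).trans (base_eq a₀ (u₀ ≫ ι)).symm)) (by simp [map_w, hφ, ov_p_map])
  refine ⟨L, inferInstance, inferInstance, inferInstance, inferInstance, U, hU', a, S₀, hS₀,
    IsOpenImmersion.lift S₀.ι (U'.ι ≫ W₀.hom) hr, π, u₀, φ₀, rfl, IsOpenImmersion.lift_fac _ _ _,
    repByAlgSpWith_comp compLocal_smooth (repByAlgSpWith_overMap_locP (M := @Smooth)
      (show Smooth U'.ι from inferInstance)) ha, map_facMap _ _ _ _⟩

end Groth.Agent.KPointChart
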