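import Groth.Agent.KPointChart.Fam
import Groth.Agent.KPointChart.Free
import Groth.Agent.KPointChart.Cover
import Groth.Agent.KPointChart.Desc
import Groth.Agent.KPointChart.Point
import Groth.Agent.KPointChart.Diff
import Groth.Agent.ASt.Diag
import Groth.Agent.ASt.SrcDesc
import Groth.Agent.ASt.LocQ
import Groth.Agent.ASp.SmST
import Groth.Agent.ASp.EtSheafAlg
/-!
Every point over a field lifts to an affine smooth chart.
-/

set_option autoImplicit false
set_option backward.isDefEq.respectTransparency false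
set_option backward.isDefEq.respectTransparency.types false
set_option linter.unusedSectionVars false
set_option linter.style.haveILetI false
set_option maxHeartbeats 800000

universe u

open CategoryTheory CategoryTheory.Limits AlgebraicGeometry

namespace Groth.Agent.KPointChart

open Groth.Agent.ASt Groth.Agent.ASp Groth.Agent.RepOne

variable {S : Scheme.{u}} {𝒳 : AlgSt.Cat S} [h𝒳 : FibCat.IsFibGrpd 𝒳.p]

/-- Factorisations through a surjective etale map form an etale covering. -/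
theorem facSv_mem {T T' : Over S} (π : T' ⟶ T) (he : Etale π.left) (hs : Surjective π.left) :
    facSv π ∈ QuotSh.J Scheme.etalePrecoverage S T := by
  rw [GrothendieckTopology.mem_over_iff]
  refine GrothendieckTopology.superset_covering _ ?_ (Precoverage.generate_mem_toGrothendieck
    (show Presieve.singleton π.left ∈ Scheme.etalePrecoverage T.left from
      (Scheme.singleton_mem_precoverage_iff @Etale π.left).2 ⟨hs.surj, he⟩))
  rw [Sieve.generate_le_iff]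
  rintro _ _ ⟨⟩
  exact ⟨T', π, 𝟙 _, ⟨𝟙 _, Category.id_comp π⟩, by simp⟩

/-- Smoothness is inherited along an etale surjective change of the source. -/
theorem smooth_of_cover (hdiag : AlgSt.RepByAlgSp1 (FibCat.diag (FibCat.toSelf 𝒳))) {C C₀ : Over S} (π : C ⟶ C₀)
    (he : Etale π.left) (hs : Surjective π.left) (p : FibCat.overCat C₀ ⥤ᵇ 𝒳)
    (h : AlgSt.RepByAlgSpWith (AlgSp.LocP @Smooth) (BasedFunctor.comp (AlgSt.overMap π) p)) :
    AlgSt.RepByAlgSpWith (AlgSp.LocP @Smooth) p :=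
  haveI := he
  repByAlgSpWith_of_source compLocal_smooth
    (fun _ _ _ hX hF hY _ _ hq hqs hqa => smLoc_descend (isSmoothLocalST_locP (M := @Smooth)) hF hX hY hq hqs hqa)
    (repByAlgSp1_of_diag hdiag p) (repByAlgSpWith_overMap_locP (M := @Smooth) (show Smooth π.left from inferInstance))
    (repByAlgSpWith_overMap fun _ _ _ sq => surjective_map_of_repWith
      (repWith_yon_map (P := @Surjective) (MorphismProperty.of_isPullback (sq.map (Over.forget S)) hs))) h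

/-- A point over a field lifts to an affine smooth chart. -/
theorem exists_kchart (hst : Stk.IsStack (QuotSh.J Scheme.etalePrecoverage S) 𝒳)
    (hdiag : AlgSt.RepByAlgSp1 (FibCat.diag (FibCat.toSelf 𝒳)))
    (hd : AlgSt.RepByAlgSpWith AlgSp.IsSeparatedMor (FibCat.diag (FibCat.toSelf 𝒳)))
    (hat : AlgSt.HasAtlas (AlgSp.LocP @Smooth) 𝒳) (k : Type u) [Field k] (sk : Spec (CommRingCat.of k) ⟶ S)
    (x : FibCat.overCat (Over.mk sk) ⥤ᵇ 𝒳) :
    ∃ (U : Over S) (_ : IsAffine U.left) (p : FibCat.overCat U ⥤ᵇ 𝒳) (u : Over.mk sk ⟶ U),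
      AlgSt.RepByAlgSpWith (AlgSp.LocP @Smooth) p ∧
        Nonempty (BasedFunctor.comp (AlgSt.overMap u) p ≅ x) := by
  obtain ⟨L, _, _, _, _, U, hUaff, a, S₀, hS₀, h₀, πK, u₀, φ₀, hπK, hh₀, ha, hφ₀⟩ := exists_point hat k sk x
  haveI := hUaff
  let G : Type u := L ≃ₐ[k] L
  haveI : Finite G := inferInstanceAs (Finite (L ≃ₐ[k] L))
  let K : Over S := Over.mk sk
  let P : Over S := Over.mk (Spec.map (CommRingCat.ofHom (algebraMap k L)) ≫ sk)
  have ha1 : AlgSt.RepByAlgSp1 a := repByAlgSp1_of_with ha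
  -- the covering of the field
  have hfreeK : ∀ g : G, g ≠ 1 → Ideal.span (Set.range fun b : L => b - g • b) = ⊤ := fun g hg => by
    obtain ⟨b, hb⟩ := not_forall.1 fun h => hg (AlgEquiv.ext h)
    exact Ideal.eq_top_of_isUnit_mem _ (Ideal.subset_span ⟨b, rfl⟩)
      (IsUnit.mk0 _ (sub_ne_zero.2 (Ne.symm hb)))
  haveI : Algebra.IsInvariant k L G := inferInstanceAs (Algebra.IsInvariant k L (L ≃ₐ[k] L))
  haveI : SMulCommClass G k L := inferInstanceAs (SMulCommClass (L ≃ₐ[k] L) k L)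
  obtain ⟨VK, hVKπ, hVKσ⟩ := exists_gcov (G := G) (A := k) (B := L) (algebraMap k L).injective hfreeK sk
    (Spec.map (CommRingCat.ofHom (algebraMap k L)) ≫ sk) rfl
  have hπ : VK.π = πK := Over.OverMorphism.ext (hVKπ.trans hπK.symm)
  subst hπ
  -- differences of the lifts
  obtain ⟨δ, ψ, δ_nat, δ_trans, ψ_map, ψ_nat, δ_spec⟩ := exists_diff x a u₀ φ₀ hφ₀
  -- the charts of the differences
  have hσg : ∀ g, 𝟙 P ≫ VK.π = VK.σ g ≫ VK.π := fun g => by rw [Category.id_comp, VK.σ_π]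
  choose C c₀ hc₀p hc₀q hc₀ using fun g : G =>
    exists_rchart (a := a) ha hd (δ (𝟙 P) (VK.σ g) (hσg g) (Category.id_comp u₀) (rfl : VK.σ g ≫ u₀ = _))
  have hqc : ∀ p g q, g * p = q → (VK.σ p ≫ c₀ g) ≫ (C g).q = VK.σ q ≫ u₀ := by
    intro p g q h
    rw [Category.assoc, hc₀q, ← Category.assoc, VK.σ_mul, h]
  have hπσ : ∀ p q, VK.σ p ≫ VK.π = VK.σ q ≫ VK.π := fun p q => by rw [VK.σ_π, VK.σ_π]
  have hpt : ∀ p g q (h : g * p = q), IsoG.res (VK.σ p ≫ c₀ g) (by rw [Category.assoc, hc₀p]) (hqc p g q h) (C g).α =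
      δ (VK.σ p) (VK.σ q) (hπσ p q) rfl rfl := by
    intro p g q h
    subst h
    have h1 := congrArg (IsoG.res (VK.σ p) (rfl : VK.σ p ≫ u₀ = _)
      (show VK.σ p ≫ VK.σ g ≫ u₀ = VK.σ (g * p) ≫ u₀ by rw [← Category.assoc, VK.σ_mul])) (hc₀ g)
    rw [IsoG.res_res_eq rfl] at h1
    rw [h1, δ_nat _ _ _ (hσg g) (Category.id_comp u₀) rfl]
    have : ∀ (l l' : P ⟶ P) (e : l ≫ VK.π = l' ≫ VK.π) (_ : l = VK.σ p) (_ : l' = VK.σ (g * p))
        (f : l ≫ u₀ = VK.σ p ≫ u₀) (f' : l' ≫ u₀ = VK.σ (g * p) ≫ u₀),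
        δ l l' e f f' = δ (VK.σ p) (VK.σ (g * p)) (hπσ _ _) rfl rfl := by
      rintro _ _ _ rfl rfl _ _; rfl
    exact this _ _ (by rw [Category.assoc, Category.assoc, hσg g]) (Category.comp_id _) (VK.σ_mul _ _) (by rw [Category.comp_id]) (by rw [VK.σ_mul])
  let F₀ : Fam C P :=
    { c := fun p g => VK.σ p ≫ c₀ g
      u := fun p => VK.σ p ≫ u₀
      hp := fun p g => by rw [Category.assoc, hc₀p]
      hq := fun p g _ h => hqc p g _ h
      coc := fun p g h => by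
        rw [hpt p g _ rfl, hpt (g * p) h _ (mul_assoc h g p).symm, hpt p (h * g) _ rfl,
          δ_trans _ _ _ (hπσ p (g * p)) (hπσ (g * p) (h * g * p))] }
  -- the universal family
  obtain ⟨W, hW, F, hsm, huniv⟩ := exists_fam C
  haveI := hW
  obtain ⟨P₀, hP₀, -⟩ := huniv F₀
  choose ρ hρ hρu using fun g => huniv (F.shift g)
  have hρ' : ∀ g p h, ρ g ≫ F.c p h = F.c (p * g) h := hρ
  have hρ1 : ρ 1 = 𝟙 W := (hρu 1 _ fun p h => by
    rw [Category.id_comp]; exact congrArg (fun t => F.c t h) (mul_one p).symm).symm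
  have hρmul : ∀ h g, ρ g ≫ ρ h = ρ (h * g) := fun h g => hρu _ _ fun p j => by
    rw [Category.assoc, hρ', hρ', mul_assoc]
    rfl
  have hρU : ∀ g p, ρ g ≫ F.u p = F.u (p * g) := fun g p => by
    rw [← F.hp p 1, ← Category.assoc, hρ', F.hp]
  have hP₀σ : ∀ g, VK.σ g ≫ P₀ = P₀ ≫ ρ g := fun g => by
    refine (huniv (F₀.comp (VK.σ g))).unique (fun p h => ?_) (fun p h => ?_)
    · rw [Category.assoc, hP₀]
      rfl
    · rw [Category.assoc, hρ', hP₀]
      show VK.σ (p * g) ≫ c₀ h = VK.σ g ≫ VK.σ p ≫ c₀ h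
      rw [← Category.assoc, VK.σ_mul]
  -- the free extension
  obtain ⟨θ, hθ⟩ := Field.exists_primitive_element k L
  have hθg : ∀ g : G, g ≠ 1 → g • θ ≠ θ := fun g hg h => hg <| by
    have htop : Algebra.adjoin k {θ} = ⊤ := by
      rw [← IntermediateField.adjoin_simple_toSubalgebra_of_isAlgebraic (Algebra.IsAlgebraic.isAlgebraic θ), hθ,
        IntermediateField.top_toSubalgebra]
    have := AlgHom.ext_of_adjoin_eq_top htop (φ₁ := g.toAlgHom) (φ₂ := AlgHom.id k L) (by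
      rintro _ rfl; exact h)
    exact AlgEquiv.ext fun y => congr($this y)
  obtain ⟨B, _, _, v, e, hv, hvρ, hfree, he, heP⟩ := exists_free (str := P.hom) ρ hρ1 hρmul θ hθg P₀
    (fun g => by rw [← hVKσ g]; exact congrArg Over.Hom.left (hP₀σ g))
  haveI := hv
  let strB : Spec (CommRingCat.of B) ⟶ S := v ≫ W.hom
  let vB : Over.mk strB ⟶ W := Over.homMk v rfl
  -- the base of the quotient
  let h₁ : W.left ⟶ S₀ := (F.u 1).left ≫ h₀
  have hh₁ : h₁ ≫ S₀.ι = W.hom := by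
    simp only [h₁]
    rw [Category.assoc, hh₀, Over.w]
  have hinv : ∀ g, specAct g ≫ v ≫ h₁ = v ≫ h₁ := fun g => by
    rw [← cancel_mono S₀.ι]
    simp only [Category.assoc, hh₁]
    rw [← Category.assoc, hvρ, Category.assoc, Over.w]
  let η := Spec.preimage (v ≫ h₁ ≫ hS₀.isoSpec.hom)
  have hη : ∀ (g : G) r, g • η.hom r = η.hom r := by
    intro g r
    have h2 : η ≫ CommRingCat.ofHom (MulSemiringAction.toRingHom G B g) = η := Spec.map_injective (by
      rw [Spec.map_comp]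
      simp only [η, Spec.map_preimage]
      have h3 : specAct g⁻¹ = Spec.map (CommRingCat.ofHom (MulSemiringAction.toRingHom G B g)) := by
        rw [specAct, inv_inv]
      rw [← h3, ← Category.assoc, ← Category.assoc, Category.assoc (specAct g⁻¹), hinv]
      exact Category.assoc _ _ _)
    exact congr($h2 r)
  let A : Type u := FixedPoints.subring B G
  let algAB : A →+* B := (FixedPoints.subring B G).subtype
  let η' : Γ(S, S₀) ⟶ CommRingCat.of A := CommRingCat.ofHom (η.hom.codRestrict (FixedPoints.subring B G) fun r g => hη g r)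
  let strA : Spec (CommRingCat.of A) ⟶ S := Spec.map η' ≫ hS₀.isoSpec.inv ≫ S₀.ι
  have hstrA : Spec.map (CommRingCat.ofHom algAB) ≫ strA = strB := by
    have : η' ≫ CommRingCat.ofHom algAB = η := CommRingCat.hom_ext (RingHom.ext fun r => rfl)
    simp only [strA, ← Spec.map_comp_assoc, this, η, Spec.map_preimage, Category.assoc, Iso.hom_inv_id_assoc]
    rw [hh₁]
  haveI : Algebra.IsInvariant A B G := ⟨fun b hb => ⟨⟨b, hb⟩, rfl⟩⟩
  haveI : SMulCommClass G A B := ⟨fun g r b => by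
    show g • ((r : B) * b) = (r : B) * g • b
    rw [smul_mul', r.2 g]⟩
  obtain ⟨V, hVπ, hVσ⟩ := exists_gcov (G := G) (A := A) (B := B) Subtype.val_injective hfree strA strB hstrA
  haveI := V.etale
  -- descent
  have hσv : ∀ g, V.σ g ≫ vB = vB ≫ ρ g := fun g => Over.OverMorphism.ext (by
    show (V.σ g).left ≫ v = v ≫ (ρ g).left
    rw [hVσ, hvρ])
  let ub : Over.mk strB ⟶ U := vB ≫ F.u 1
  have hub : ∀ g, vB ≫ F.u g = V.σ g ≫ ub := fun g => by
    simp only [ub]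
    rw [← Category.assoc, hσv, Category.assoc, hρU, one_mul]
  let Fv := F.comp vB
  obtain ⟨Φ, hΦdef⟩ : ∃ Φ : ∀ g, IsoG a ub (V.σ g ≫ ub), ∀ g, Φ g =
      IsoG.res (vB ≫ F.c 1 g) (by rw [Category.assoc, F.hp]) (by rw [Category.assoc, F.hq 1 g (mul_one g), hub]) (C g).α :=
    ⟨_, fun g => rfl⟩
  have hΦ : ∀ g h, (Φ g).trans (IsoG.res (V.σ g) rfl (by rw [← Category.assoc, V.σ_mul]) (Φ h)) = Φ (h * g) := by
    intro g h
    have h1 : V.σ g ≫ vB ≫ F.c 1 h = vB ≫ F.c g h := by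
      rw [← Category.assoc, hσv, Category.assoc, hρ', one_mul]
    rw [hΦdef, hΦdef, hΦdef, IsoG.res_res_eq h1]
    have key : ∀ (x₀ x₁ x₂ : Over.mk strB ⟶ U) (e₀ : x₀ = Fv.u 1) (e₁ : x₁ = Fv.u g) (e₂ : x₂ = Fv.u (h * g))
        (f₀ : Fv.c 1 g ≫ (C g).p = x₀) (f₁ : Fv.c 1 g ≫ (C g).q = x₁) (f₁' : Fv.c g h ≫ (C h).p = x₁)
        (f₂ : Fv.c g h ≫ (C h).q = x₂) (f₀' : Fv.c 1 (h * g) ≫ (C (h * g)).p = x₀)
        (f₂' : Fv.c 1 (h * g) ≫ (C (h * g)).q = x₂),
        (IsoG.res (Fv.c 1 g) f₀ f₁ (C g).α).trans (IsoG.res (Fv.c g h) f₁' f₂ (C h).α) =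
          IsoG.res (Fv.c 1 (h * g)) f₀' f₂' (C (h * g)).α := by
      rintro _ _ _ rfl rfl rfl _ _ _ _ _ _
      exact Fv.β_trans (mul_one g) rfl rfl
    exact key _ _ _ rfl (hub g).symm (hub (h * g)).symm _ _ _ _ _ _
  obtain ⟨Θ, hΘn, hΘc, hΘp⟩ := exists_family ha1 hd Φ hΦ
  have hiff := (isStack_iff (𝒳 := 𝒳)).1 hst
  obtain ⟨p, γ, γ_map, γ_nat, γ_Θ⟩ := exists_descend (hiff _ (facSv_mem V.π V.etale V.surj)).2 hΘn hΘc
  have hsmp : AlgSt.RepByAlgSpWith (AlgSp.LocP @Smooth) p := by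
    refine smooth_of_cover hdiag V.π V.etale V.surj p (repByAlgSpWith_congr ?_ (repByAlgSpWith_comp compLocal_smooth
      (repByAlgSpWith_overMap_locP (M := @Smooth) (σ := ub) (by
        haveI := hsm
        exact inferInstanceAs (Smooth (v ≫ (F.u 1).left)))) ha))
    exact funIso (γ (𝟙 _) (rfl : 𝟙 _ ≫ ub = _) (rfl : 𝟙 _ ≫ V.π = _)) (γ_map _ _ _)
  -- the point
  let P₁ : P ⟶ Over.mk strB := Over.homMk (Spec.map (CommRingCat.ofHom e)) (by
    show Spec.map (CommRingCat.ofHom e) ≫ v ≫ W.hom = P.hom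
    rw [← Category.assoc, heP]
    exact Over.w P₀)
  have hP₁v : P₁ ≫ vB = P₀ := Over.OverMorphism.ext heP
  have hP₁u : P₁ ≫ ub = u₀ := by
    simp only [ub]
    rw [← Category.assoc, hP₁v, ← F.hp 1 1, ← Category.assoc, hP₀]
    show (VK.σ 1 ≫ c₀ 1) ≫ (C 1).p = u₀
    rw [VK.σ_one, Category.id_comp, hc₀p]
  have hP₁σ : ∀ g, VK.σ g ≫ P₁ = P₁ ≫ V.σ g := fun g => Over.OverMorphism.ext (by
    show (VK.σ g).left ≫ Spec.map _ = Spec.map _ ≫ (V.σ g).left
    rw [hVKσ, hVσ, specAct, specAct, ← Spec.map_comp, ← Spec.map_comp]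
    congr 1
    exact CommRingCat.hom_ext (RingHom.ext fun b => (he g⁻¹ b).symm))
  have hbot : ∀ r : A, ∃ c : k, algebraMap k L c = e (algAB r) := fun r =>
    Algebra.IsInvariant.isInvariant (A := k) (G := G) (e (algAB r)) fun g => by
      rw [← he]
      exact congrArg e (r.2 g)
  choose e₀ he₀ using hbot
  have hinjk := (algebraMap k L).injective
  let e' : A →+* k :=
    { toFun := e₀
      map_one' := hinjk (by rw [he₀, map_one, map_one, map_one])
      map_mul' := fun r s => hinjk (by rw [map_mul, he₀, he₀, he₀, map_mul, map_mul])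
      map_zero' := hinjk (by rw [he₀, map_zero, map_zero, map_zero])
      map_add' := fun r s => hinjk (by rw [map_add, he₀, he₀, he₀, map_add, map_add]) }
  have he' : Spec.map (CommRingCat.ofHom (algebraMap k L)) ≫ Spec.map (CommRingCat.ofHom e') =
      Spec.map (CommRingCat.ofHom e) ≫ Spec.map (CommRingCat.ofHom algAB) := by
    rw [← Spec.map_comp, ← Spec.map_comp]
    congr 1
    exact CommRingCat.hom_ext (RingHom.ext fun r => he₀ r)
  haveI hπe : Etale VK.π.left := VK.etale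
  haveI hπs : Surjective VK.π.left := VK.surj
  haveI : Epi VK.π.left := Flat.epi_of_flat_of_surjective _
  let m₀ : K ⟶ Over.mk strA := Over.homMk (Spec.map (CommRingCat.ofHom e')) (by
    show Spec.map (CommRingCat.ofHom e') ≫ strA = sk
    rw [← cancel_epi VK.π.left, hVKπ, ← Category.assoc, he', Category.assoc, hstrA]
    exact Over.w P₁)
  have hP₁π : P₁ ≫ V.π = VK.π ≫ m₀ := Over.OverMorphism.ext (by
    show Spec.map (CommRingCat.ofHom e) ≫ V.π.left = VK.π.left ≫ Spec.map (CommRingCat.ofHom e')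
    rw [hVπ, hVKπ]
    exact he'.symm)
  refine ⟨Over.mk strA, inferInstanceAs (IsAffine (Spec (CommRingCat.of A))), p, m₀, hsmp, ?_⟩
  have hl : ∀ {T : Over S} (l : T ⟶ P), (l ≫ P₁) ≫ ub = l ≫ u₀ := fun l => by rw [Category.assoc, hP₁u]
  have hm₁ : ∀ {T : Over S} (l : T ⟶ P) {m : T ⟶ K}, l ≫ VK.π = m → (l ≫ P₁) ≫ V.π = m ≫ m₀ := fun l m h => by
    rw [Category.assoc, hP₁π, ← h, Category.assoc]
  let θ₁ : Family a VK u₀ := fun {T} l l' eq {w w'} hw hw' =>
    Θ (l ≫ P₁) (l' ≫ P₁) (by rw [hm₁ l rfl, hm₁ l' eq.symm]) ((hl l).trans hw) ((hl l').trans hw')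
  have θ₁_nat : θ₁.Natural := by
    intro T T' j l l' eq w w' hw hw' v₁ v₁' hv₁ hv₁'
    simp only [θ₁]
    rw [hΘn]
    have : ∀ (r r' : T' ⟶ Over.mk strB) (c : r ≫ V.π = r' ≫ V.π) (_ : r = (j ≫ l) ≫ P₁) (_ : r' = (j ≫ l') ≫ P₁)
        (f : r ≫ ub = v₁) (f' : r' ≫ ub = v₁') (c₂ : ((j ≫ l) ≫ P₁) ≫ V.π = ((j ≫ l') ≫ P₁) ≫ V.π)
        (g : ((j ≫ l) ≫ P₁) ≫ ub = v₁) (g' : ((j ≫ l') ≫ P₁) ≫ ub = v₁'),
        Θ r r' c f f' = Θ ((j ≫ l) ≫ P₁) ((j ≫ l') ≫ P₁) c₂ g g' := by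
      rintro _ _ _ rfl rfl _ _ _ _ _; rfl
    exact this _ _ _ (Category.assoc _ _ _).symm (Category.assoc _ _ _).symm _ _ _ _ _
  have hθ₁ : ∀ {T : Over S} (l l' : T ⟶ P) (eq : l ≫ VK.π = l' ≫ VK.π) {w w' : T ⟶ U} (hw : l ≫ u₀ = w)
      (hw' : l' ≫ u₀ = w'), θ₁ l l' eq hw hw' = δ l l' eq hw hw' := by
    refine Family.eq_of_pieces hd θ₁_nat δ_nat ?_
    intro T l g w w' hw hw'
    have h1 : ∀ (r : T ⟶ Over.mk strB) (_ : r = (l ≫ P₁) ≫ V.σ g) (c : (l ≫ P₁) ≫ V.π = r ≫ V.π)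
        (f' : r ≫ ub = w'),
        Θ (l ≫ P₁) r c ((hl l).trans hw) f' =
          IsoG.res (l ≫ P₁) ((hl l).trans hw) (show (l ≫ P₁) ≫ V.σ g ≫ ub = w' by
            rw [← hw', ← hl]; simp only [Category.assoc, reassoc_of% (hP₁σ g)]) (Φ g) := by
      rintro _ rfl c f'
      exact hΘp (l ≫ P₁) g _ f'
    simp only [θ₁]
    rw [h1 _ (by simp only [Category.assoc, hP₁σ]), hΦdef]
    have h2 : (l ≫ P₁) ≫ vB ≫ F.c 1 g = l ≫ c₀ g := by
      rw [Category.assoc, reassoc_of% hP₁v, hP₀]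
      show l ≫ VK.σ 1 ≫ c₀ g = l ≫ c₀ g
      rw [VK.σ_one, Category.id_comp]
    rw [IsoG.res_res_eq h2]
    have h3 := congrArg (IsoG.res l (show l ≫ u₀ = w from hw) (show l ≫ VK.σ g ≫ u₀ = w' by
      rw [← Category.assoc, hw'])) (hc₀ g)
    rw [IsoG.res_res_eq rfl, δ_nat _ _ _ (hσg g) (Category.id_comp u₀) rfl] at h3
    rw [h3]
    have : ∀ (r r' : T ⟶ P) (c : r ≫ VK.π = r' ≫ VK.π) (_ : r = l) (_ : r' = l ≫ VK.σ g)
        (f : r ≫ u₀ = w) (f' : r' ≫ u₀ = w') (c₂ : l ≫ VK.π = (l ≫ VK.σ g) ≫ VK.π),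
        δ r r' c f f' = δ l (l ≫ VK.σ g) c₂ hw hw' := by
      rintro _ _ _ rfl rfl _ _ _; rfl
    exact this _ _ (by rw [Category.assoc, Category.assoc, hσg g]) (Category.comp_id l) rfl
      (by rw [Category.comp_id, hw]) hw' (by rw [Category.assoc, VK.σ_π])
  let z' := BasedFunctor.comp (AlgSt.overMap m₀) p
  let f : ∀ {T : Over S} (l : T ⟶ P) {m : T ⟶ K}, l ≫ VK.π = m → (x.obj (ov m) ⟶ z'.obj (ov m)) :=
    fun {T} l {m} hm => ψ l rfl hm ≫ γ (l ≫ P₁) (hl l) (hm₁ l hm)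
  obtain ⟨iso⟩ := exists_iso_of_family VK.π (hiff _ (facSv_mem VK.π VK.etale VK.surj)).1 x z' f
    (fun {T} l {m} hm => by
      simp only [f]
      rw [Functor.map_comp, ψ_map, γ_map, eqToHom_trans])
    (fun {T T''} j l {m} hm {m'} em hm' => by
      have e1 : j ≫ m ≫ m₀ = m' ≫ m₀ := by rw [← Category.assoc, em]
      show (ψ (j ≫ l) rfl hm' ≫ γ ((j ≫ l) ≫ P₁) (hl _) (hm₁ _ hm')) ≫ p.map (ovHom j e1) = _
      simp only [f]
      rw [Category.assoc, γ_nat j (l ≫ P₁) (hl l) (hm₁ l hm) (Category.assoc _ _ _).symm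
        (Category.assoc _ _ _).symm e1 (hl _) (hm₁ _ hm'), ← Category.assoc,
        ψ_nat j l rfl hm rfl (Category.assoc _ _ _).symm em rfl hm', Category.assoc])
    (fun {T} l l' {m} h h' => by
      have eq : l ≫ VK.π = l' ≫ VK.π := h.trans h'.symm
      simp only [f]
      rw [← γ_Θ (l ≫ P₁) (l' ≫ P₁) ((hm₁ l h).trans (hm₁ l' h').symm) (hl l) (hl l') (hm₁ l h) (hm₁ l' h'),
        ← Category.assoc]
      congr 1
      rw [← δ_spec l l' eq rfl rfl h h', ← hθ₁ l l' eq rfl rfl])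
  exact ⟨iso.symm⟩

end Groth.Agent.KPointChart

namespace Groth.Agent.KPointChart

/-- A stack for the fppf topology is a stack for the etale topology. -/
theorem isStack_etale {S : Scheme.{u}} {𝒳 : AlgSt.Cat S}
    (h : Stk.IsStack (QuotSh.J Scheme.fppfPrecoverage S) 𝒳) : Stk.IsStack (QuotSh.J Scheme.etalePrecoverage S) 𝒳 :=
  ⟨h.1, fun _ _ hR => h.2 _ (BigSite.J_mono BigSite.etalePrecoverage_le_fppfPrecoverage S _ hR)⟩

end Groth.Agent.KPointChart
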