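import Mathlib

/-!
Finite wide fibre products of affine schemes over an affine scheme.
-/

set_option autoImplicit false
set_option backward.isDefEq.respectTransparency false
set_option backward.isDefEq.respectTransparency.types false

universe u

open CategoryTheory CategoryTheory.Limits AlgebraicGeometry

namespace Groth.Agent.KPointChart

variable {S : Scheme.{u}}

/-- A finite family of affine schemes over an affine scheme has an affine fibre product. -/
theorem exists_wide (P : MorphismProperty Scheme.{u}) [P.IsStableUnderBaseChange] [P.IsStableUnderComposition]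
    [P.ContainsIdentities] (Y : Over S) [IsAffine Y.left] :
    ∀ (ι : Type u) [Finite ι] (E : ι → Over S), (∀ i, IsAffine (E i).left) → ∀ (f : ∀ i, E i ⟶ Y),
      (∀ i, P (f i).left) →
      ∃ (W : Over S) (e : W ⟶ Y) (π : ∀ i, W ⟶ E i), IsAffine W.left ∧ P e.left ∧ (∀ i, π i ≫ f i = e) ∧
        ∀ (T : Over S) (m : T ⟶ Y) (c : ∀ i, T ⟶ E i), (∀ i, c i ≫ f i = m) →
          ∃! w : T ⟶ W, w ≫ e = m ∧ ∀ i, w ≫ π i = c i := by
  intro ι _
  refine Finite.induction_empty_option (P := fun κ : Type u => ∀ (E : κ → Over S), (∀ i, IsAffine (E i).left) →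
      ∀ (f : ∀ i, E i ⟶ Y), (∀ i, P (f i).left) →
      ∃ (W : Over S) (e : W ⟶ Y) (π : ∀ i, W ⟶ E i), IsAffine W.left ∧ P e.left ∧ (∀ i, π i ≫ f i = e) ∧
        ∀ (T : Over S) (m : T ⟶ Y) (c : ∀ i, T ⟶ E i), (∀ i, c i ≫ f i = m) →
          ∃! w : T ⟶ W, w ≫ e = m ∧ ∀ i, w ≫ π i = c i) ?_ ?_ ?_ ι
  · -- relabelling
    intro α β σ h E hE f hf
    obtain ⟨W, e, π, hW, he, hπ, hu⟩ := h (fun a => E (σ a)) (fun a => hE _) (fun a => f (σ a)) (fun a => hf _)
    have tr : ∀ {T : Over S} (c : ∀ i, T ⟶ E i) {i j : β} (h : i = j),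
        c i ≫ eqToHom (congrArg E h) = c j := fun c i j h => by subst h; simp
    have trf : ∀ {i j : β} (h : i = j), eqToHom (congrArg E h) ≫ f j = f i := fun {i j} h => by subst h; simp
    refine ⟨W, e, fun i => π (σ.symm i) ≫ eqToHom (congrArg E (σ.apply_symm_apply i)), hW, he, fun i => ?_,
      fun T m c hc => ?_⟩
    · rw [Category.assoc, trf (σ.apply_symm_apply i), hπ]
    · obtain ⟨w, ⟨hw1, hw2⟩, hwu⟩ := hu T m (fun a => c (σ a)) (fun a => hc _)
      refine ⟨w, ⟨hw1, fun i => ?_⟩, fun w' ⟨h1, h2⟩ => hwu w' ⟨h1, fun a => ?_⟩⟩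
      · rw [← Category.assoc, hw2, tr c (σ.apply_symm_apply i)]
      · have h3 := h2 (σ a)
        obtain ⟨j, hj⟩ : ∃ j, j = σ.symm (σ a) := ⟨_, rfl⟩
        obtain rfl : j = a := hj.trans (σ.symm_apply_apply a)
        have key : ∀ (i : α) (hi : i = j), (w' ≫ π i) ≫ eqToHom (congrArg (fun t => E (σ t)) hi) = w' ≫ π j :=
          fun i hi => by subst hi; simp
        rw [← key _ hj.symm, Category.assoc]
        exact h3
  · -- no member
    intro E hE f hf
    refine ⟨Y, 𝟙 Y, fun i => i.elim, inferInstance, P.id_mem _, fun i => i.elim, fun T m c hc => ?_⟩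
    exact ⟨m, ⟨Category.comp_id m, fun i => i.elim⟩, fun w hw => (Category.comp_id w).symm.trans hw.1⟩
  · -- one more
    intro α _ h E hE f hf
    obtain ⟨W, e, π, hW, he, hπ, hu⟩ := h (fun a => E (some a)) (fun a => hE _) (fun a => f (some a)) (fun a => hf _)
    let W' := pullback e (f none)
    have sq : IsPullback (pullback.fst e (f none)).left (pullback.snd e (f none)).left e.left (f none).left :=
      (IsPullback.of_hasPullback e (f none)).map (Over.forget S)
    haveI := hE none
    haveI : IsAffineHom (f none).left := inferInstance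
    haveI : IsAffineHom (pullback.fst e (f none)).left := MorphismProperty.of_isPullback sq.flip inferInstance
    haveI : IsAffine W'.left := isAffine_of_isAffineHom (pullback.fst e (f none)).left
    refine ⟨W', pullback.fst e (f none) ≫ e,
      fun i => Option.rec (pullback.snd e (f none)) (fun a => pullback.fst e (f none) ≫ π a) i, inferInstance,
      P.comp_mem _ _ (MorphismProperty.of_isPullback sq.flip (hf none)) he, fun i => ?_, fun T m c hc => ?_⟩
    · cases i with
      | none => exact pullback.condition.symm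
      | some a =>
        change (pullback.fst e (f none) ≫ π a) ≫ f (some a) = _
        rw [Category.assoc, hπ]
    · obtain ⟨w, ⟨hw1, hw2⟩, hwu⟩ := hu T m (fun a => c (some a)) (fun a => hc _)
      refine ⟨pullback.lift w (c none) (hw1.trans (hc none).symm), ⟨?_, fun i => ?_⟩, fun w' ⟨h1, h2⟩ => ?_⟩
      · rw [pullback.lift_fst_assoc, hw1]
      · cases i with
        | none => exact pullback.lift_snd _ _ _
        | some a =>
          change _ ≫ pullback.fst e (f none) ≫ π a = _
          rw [pullback.lift_fst_assoc, hw2]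
      · have h3 : w' ≫ pullback.fst e (f none) = w :=
          hwu _ ⟨(Category.assoc _ _ _).trans h1, fun a => (Category.assoc _ _ _).trans (h2 (some a))⟩
        apply pullback.hom_ext
        · rw [pullback.lift_fst, h3]
        · rw [pullback.lift_snd]
          exact h2 none

end Groth.Agent.KPointChart
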