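import Groth.Agent.KPointChart.Iso
import Groth.Agent.KPointChart.IsoAlg
import Groth.Agent.KPointChart.Wide
/-!
An affine family of systems of isomorphisms between values, indexed by a finite group.
-/

set_option autoImplicit false
set_option backward.isDefEq.respectTransparency false
set_option backward.isDefEq.respectTransparency.types false
set_option linter.unusedSectionVars false
set_option linter.style.haveILetI false

universe u

open CategoryTheory CategoryTheory.Limits AlgebraicGeometry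

namespace Groth.Agent.KPointChart

open Groth.Agent.ASt

variable {S : Scheme.{u}} {𝒳 : AlgSt.Cat S} [h𝒳 : FibCat.IsFibGrpd 𝒳.p] {U : Over S}
  {a : FibCat.overCat U ⥤ᵇ 𝒳} {G : Type u} [Group G] (C : G → RChart a)

/-- A system of isomorphisms indexed by a group, with lifts to the charts. -/
structure Fam (T : Over S) where
  /-- the lifts -/
  c : ∀ (_ g : G), T ⟶ (C g).A
  /-- the values -/
  u : G → (T ⟶ U)
  hp : ∀ p g, c p g ≫ (C g).p = u p
  hq : ∀ p g {q}, g * p = q → c p g ≫ (C g).q = u q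
  coc : ∀ p g h,
    (IsoG.res (c p g) (hp p g) (hq p g rfl) (C g).α).trans
        (IsoG.res (c (g * p) h) (hp _ h) (hq (g * p) h (mul_assoc h g p).symm) (C h).α) =
      IsoG.res (c p (h * g)) (hp p _) (hq p (h * g) rfl) (C (h * g)).α

variable {C}

namespace Fam

variable {T T' : Over S} (F : Fam C T)

/-- The isomorphisms of a system. -/
noncomputable def β (p g : G) {q : G} (h : g * p = q) : IsoG a (F.u p) (F.u q) :=
  IsoG.res (F.c p g) (F.hp p g) (F.hq p g h) (C g).α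

theorem β_trans {p g q h r k : G} (hg : g * p = q) (hh : h * q = r) (hk : h * g = k) :
    (F.β p g hg).trans (F.β q h hh) = F.β p k (by rw [← hk, mul_assoc, hg, hh]) := by
  subst hg hk
  obtain rfl : h * g * p = r := by rw [mul_assoc, hh]
  exact F.coc p g h

theorem β_one (p : G) : F.β p 1 (one_mul p) = IsoG.refl _ :=
  IsoG.eq_refl_of_idem (F.β_trans (one_mul p) (one_mul p) (one_mul 1))

/-- Precomposition. -/
noncomputable def comp (m : T' ⟶ T) : Fam C T' where
  c p g := m ≫ F.c p g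
  u p := m ≫ F.u p
  hp p g := by rw [Category.assoc, F.hp]
  hq p g _ h := by rw [Category.assoc, F.hq p g h]
  coc p g h := by
    have := congrArg (IsoG.res m rfl rfl) (F.coc p g h)
    rw [IsoG.res_trans m rfl rfl rfl, IsoG.res_res_eq rfl, IsoG.res_res_eq rfl, IsoG.res_res_eq rfl] at this
    exact this

theorem res_β (m : T' ⟶ T) (p g : G) {q : G} (h : g * p = q) :
    IsoG.res m rfl rfl (F.β p g h) = (F.comp m).β p g h :=
  IsoG.res_res_eq rfl _ _ _ _ _

/-- Translation of the indices. -/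
noncomputable def shift (k : G) : Fam C T where
  c p g := F.c (p * k) g
  u p := F.u (p * k)
  hp p g := F.hp _ g
  hq p g _ h := F.hq _ g (by rw [← mul_assoc, h])
  coc p g h := by
    have key : ∀ (x : G) (hx : x = g * (p * k)) (e : F.c (g * p * k) h ≫ (C h).p = F.u x)
        (e' : F.c (g * p * k) h ≫ (C h).q = F.u (h * g * p * k)) (e'' : F.c (p * k) g ≫ (C g).q = F.u x),
        (IsoG.res (F.c (p * k) g) (F.hp _ g) e'' (C g).α).trans
            (IsoG.res (F.c (g * p * k) h) e e' (C h).α) =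
          IsoG.res (F.c (p * k) (h * g)) (F.hp _ _) (F.hq _ _ (mul_assoc (h * g) p k).symm) (C (h * g)).α := by
      intro x hx e e' e''
      obtain rfl : x = g * p * k := hx.trans (mul_assoc g p k).symm
      exact F.β_trans (mul_assoc g p k).symm (by simp only [mul_assoc]) rfl
    exact key (g * p * k) (mul_assoc g p k) _ _ _

end Fam

variable (a) in
/-- An element of a chart whose isomorphism is trivial. -/
def IsReflPt (R : RChart a) {T : Over S} (c : T ⟶ R.A) : Prop :=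
  ∃ (l : T ⟶ U) (h : c ≫ R.p = l) (h' : c ≫ R.q = l), IsoG.res c h h' R.α = IsoG.refl l

theorem IsReflPt.comp {R : RChart a} {T T' : Over S} {c : T ⟶ R.A} (h : IsReflPt a R c) (m : T' ⟶ T) :
    IsReflPt a R (m ≫ c) := by
  obtain ⟨l, h, h', e⟩ := h
  refine ⟨m ≫ l, by rw [Category.assoc, h], by rw [Category.assoc, h'], ?_⟩
  have := congrArg (IsoG.res m rfl rfl) e
  rw [IsoG.res_res_eq rfl, IsoG.res_refl] at this
  exact this

variable (C) in
theorem exists_base [IsAffine U.left] (g : G) :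
    ∃ (E : Over S) (c : E ⟶ (C g).A), IsAffine E.left ∧ Smooth (c ≫ (C g).p).left ∧
      (g = 1 → IsReflPt a (C g) c) ∧
      ∀ {T : Over S} (d : T ⟶ (C g).A), (g = 1 → IsReflPt a (C g) d) → ∃! m, m ≫ c = d := by
  by_cases hg : g = 1
  · obtain ⟨E, e, c, h, h', hE, he, heq, huniv, hmono⟩ := (C g).lift (T := U) inferInstance (IsoG.refl (𝟙 U))
    rw [IsoG.res_refl] at heq
    refine ⟨E, c, hE, ?_, fun _ => ⟨e ≫ 𝟙 U, h, h', heq⟩, fun {T} d hd => ?_⟩
    · haveI := he
      rw [h, Category.comp_id]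
      infer_instance
    · obtain ⟨l, k, k', hl⟩ := hd hg
      have e1 : IsoG.res d (k.trans (Category.comp_id l).symm) (k'.trans (Category.comp_id l).symm) (C g).α =
          IsoG.res l rfl rfl (IsoG.refl (𝟙 U)) := by
        rw [IsoG.res_refl]
        have := congrArg (IsoG.res (𝟙 T) (show 𝟙 T ≫ l = l ≫ 𝟙 U by simp) (show 𝟙 T ≫ l = l ≫ 𝟙 U by simp)) hl
        rw [IsoG.res_res_eq (Category.id_comp d), IsoG.res_refl] at this
        exact this
      obtain ⟨m, hm1, hm2⟩ := huniv l d _ _ e1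
      refine ⟨m, hm2, fun m' hm' => hmono _ _ ?_ (hm'.trans hm2.symm)⟩
      have h3 : ∀ n : T ⟶ E, n ≫ e = n ≫ c ≫ (C g).p := fun n => by rw [h, Category.comp_id]
      rw [h3, h3, ← Category.assoc, ← Category.assoc, hm', hm2]
  · refine ⟨(C g).A, 𝟙 _, (C g).isAffine, ?_, fun h => absurd h hg, fun {T} d _ => ⟨d, Category.comp_id d,
      fun m hm => (Category.comp_id m).symm.trans hm⟩⟩
    haveI := (C g).smooth
    rw [Category.id_comp]
    infer_instance

/-- The universal affine family. -/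
theorem exists_fam [IsAffine U.left] [Finite G] (C : G → RChart a) :
    ∃ (W : Over S) (_ : IsAffine W.left) (F : Fam C W), Smooth (F.u 1).left ∧
      ∀ {T : Over S} (F' : Fam C T), ∃! m : T ⟶ W, ∀ p g, m ≫ F.c p g = F'.c p g := by
  choose E₀ c₀ hE₀ hsm₀ hrefl₀ hu₀ using fun g => exists_base C g
  haveI : MorphismProperty.ContainsIdentities @Smooth := ⟨fun _ => inferInstance⟩
  obtain ⟨A₁, e₁, π, hA₁, he₁, hπ, hu₁⟩ :=
    exists_wide (@Smooth) U G E₀ hE₀ (fun g => c₀ g ≫ (C g).p) hsm₀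
  obtain ⟨ag, hag⟩ : ∃ ag : ∀ g, A₁ ⟶ (C g).A, ∀ g, ag g = π g ≫ c₀ g := ⟨_, fun g => rfl⟩
  have hagp : ∀ g, ag g ≫ (C g).p = e₁ := fun g => by rw [hag, Category.assoc, hπ]
  obtain ⟨uu, huu⟩ : ∃ uu : G → (A₁ ⟶ U), ∀ g, ag g ≫ (C g).q = uu g := ⟨_, fun g => rfl⟩
  let b : ∀ g, IsoG a e₁ (uu g) := fun g => IsoG.res (ag g) (hagp g) (huu g) (C g).α
  let B : ∀ p q, IsoG a (uu p) (uu q) := fun p q => (b p).symm.trans (b q)
  have hB : ∀ p q r, (B p q).trans (B q r) = B p r := fun p q r => by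
    simp only [B]
    rw [IsoG.trans_assoc, ← IsoG.trans_assoc (b q) (b q).symm, IsoG.trans_symm, IsoG.refl_trans]
  obtain ⟨h1, hb1⟩ : ∃ h : uu 1 = e₁, IsoG.res (𝟙 A₁) (Category.id_comp e₁)
      ((Category.id_comp (uu 1)).trans h) (b 1) = IsoG.refl e₁ := by
    obtain ⟨l, k, k', hl⟩ := (hag 1).symm ▸ (hrefl₀ 1 rfl).comp (π 1)
    obtain rfl : l = e₁ := k.symm.trans (hagp 1)
    refine ⟨(huu 1).symm.trans k', ?_⟩
    rw [show b 1 = IsoG.res (ag 1) (hagp 1) (huu 1) (C 1).α from rfl, IsoG.res_res_eq (Category.id_comp _)]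
    exact hl
  have hB1 : ∀ g, B 1 g = IsoG.res (𝟙 A₁) ((Category.id_comp e₁).trans h1.symm) (Category.id_comp _) (b g) := by
    intro g
    have key : ∀ (y : A₁ ⟶ U) (hy : y = e₁) (b₁ : IsoG a e₁ y),
        IsoG.res (𝟙 A₁) (Category.id_comp e₁) ((Category.id_comp y).trans hy) b₁ = IsoG.refl e₁ →
        b₁.symm.trans (b g) = IsoG.res (𝟙 A₁) ((Category.id_comp e₁).trans hy.symm) (Category.id_comp _) (b g) := by
      intro y hy b₁ hb₁
      subst hy
      rw [IsoG.res_id] at hb₁ ⊢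
      rw [hb₁, IsoG.symm_refl, IsoG.refl_trans]
    exact key (uu 1) h1 (b 1) hb1
  have hex : ∀ i : G × G, ∃ (E : Over S) (e : E ⟶ A₁) (c : E ⟶ (C i.2).A) (h : c ≫ (C i.2).p = e ≫ uu i.1)
      (h' : c ≫ (C i.2).q = e ≫ uu (i.2 * i.1)),
      IsAffine E.left ∧ Etale e.left ∧
      IsoG.res c h h' (C i.2).α = IsoG.res e rfl rfl (B i.1 (i.2 * i.1)) ∧ (i.1 = 1 → c = e ≫ ag i.2) ∧
      (∀ {T : Over S} (m : T ⟶ A₁) (d : T ⟶ (C i.2).A) (k : d ≫ (C i.2).p = m ≫ uu i.1)
        (k' : d ≫ (C i.2).q = m ≫ uu (i.2 * i.1)),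
        IsoG.res d k k' (C i.2).α = IsoG.res m rfl rfl (B i.1 (i.2 * i.1)) → (i.1 = 1 → d = m ≫ ag i.2) →
          ∃ w : T ⟶ E, w ≫ e = m ∧ w ≫ c = d) ∧
      ∀ {T : Over S} (w w' : T ⟶ E), w ≫ e = w' ≫ e → w ≫ c = w' ≫ c → w = w' := by
    rintro ⟨p, g⟩
    by_cases hp : p = 1
    · subst hp
      have hcond : ∀ q (_ : q = g) (k' : ag g ≫ (C g).q = 𝟙 A₁ ≫ uu q),
          IsoG.res (ag g) ((hagp g).trans (h1.symm.trans (Category.id_comp _).symm)) k' (C g).α =
            IsoG.res (𝟙 A₁) rfl rfl (B 1 q) := by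
        intro q hqg k'
        subst hqg
        rw [hB1, show b q = IsoG.res (ag q) (hagp q) (huu q) (C q).α from rfl, IsoG.res_res_eq (Category.id_comp _),
          IsoG.res_res_eq (Category.id_comp _)]
      have hq : ag g ≫ (C g).q = 𝟙 A₁ ≫ uu (g * 1) := by rw [huu, mul_one, Category.id_comp]
      have hid : Etale (𝟙 A₁ : A₁ ⟶ A₁).left := by
        haveI : IsIso (𝟙 A₁ : A₁ ⟶ A₁).left := inferInstanceAs (IsIso (𝟙 A₁.left))
        infer_instance
      exact ⟨A₁, 𝟙 A₁, ag g, _, hq, hA₁, hid, hcond (g * 1) (mul_one g) hq, fun _ => (Category.id_comp _).symm,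
        fun {T} m d k k' _ h => ⟨m, Category.comp_id m, (h rfl).symm⟩, fun {T} w w' h _ => by
          rwa [Category.comp_id, Category.comp_id] at h⟩
    · obtain ⟨E, e, c, h, h', hE, he, heq, huniv, hmono⟩ := (C g).lift (T := A₁) hA₁ (B p (g * p))
      exact ⟨E, e, c, h, h', hE, he, heq, fun h => absurd h hp, fun {T} m d k k' hd _ => huniv m d k k' hd,
        fun {T} w w' => hmono w w'⟩
  choose E₂ e₂ c₂ hc₂p hc₂q hE₂ het₂ hres₂ hone₂ huniv₂ hmono₂ using hex
  haveI := hA₁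
  haveI : Finite (G × G) := inferInstance
  obtain ⟨W, e, π₂, hW, he, hπ₂, hu₂⟩ := exists_wide (@Etale) A₁ (G × G) E₂ hE₂ e₂ het₂
  let c : ∀ p g : G, W ⟶ (C g).A := fun p g => π₂ (p, g) ≫ c₂ (p, g)
  have hcp : ∀ p g, c p g ≫ (C g).p = e ≫ uu p := fun p g => by
    simp only [c]
    rw [Category.assoc, hc₂p, ← Category.assoc, hπ₂]
  have hcq : ∀ p g {q}, g * p = q → c p g ≫ (C g).q = e ≫ uu q := fun p g q h => by
    subst h
    simp only [c]
    rw [Category.assoc, hc₂q (p, g), ← Category.assoc, hπ₂]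
  have hβ : ∀ p g {q} (h : g * p = q), IsoG.res (c p g) (hcp p g) (hcq p g h) (C g).α = IsoG.res e rfl rfl (B p q) := by
    intro p g q h
    subst h
    have := congrArg (IsoG.res (π₂ (p, g)) (show π₂ (p, g) ≫ e₂ (p, g) ≫ uu p = e ≫ uu p by
      rw [← Category.assoc, hπ₂]) (show π₂ (p, g) ≫ e₂ (p, g) ≫ uu (g * p) = e ≫ uu (g * p) by
      rw [← Category.assoc, hπ₂])) (hres₂ (p, g))
    rw [IsoG.res_res_eq (g'' := c p g) rfl, IsoG.res_res_eq (hπ₂ (p, g))] at this
    exact this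
  let F : Fam C W :=
    { c := c
      u := fun p => e ≫ uu p
      hp := hcp
      hq := hcq
      coc := fun p g h => by
        rw [hβ p g rfl, hβ (g * p) h (mul_assoc h g p).symm, hβ p (h * g) rfl, ← IsoG.res_trans, hB] }
  refine ⟨W, hW, F, ?_, fun {T} F' => ?_⟩
  · show Smooth (e ≫ uu 1).left
    rw [h1]
    haveI := he₁
    haveI := he
    exact inferInstanceAs (Smooth (e.left ≫ e₁.left))
  · have hd : ∀ g, g = 1 → IsReflPt a (C g) (F'.c 1 g) := fun g hg => by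
      subst hg
      exact ⟨F'.u 1, F'.hp 1 1, F'.hq 1 1 (one_mul 1), F'.β_one 1⟩
    choose n hn hnu using fun g => hu₀ g (F'.c 1 g) (hd g)
    obtain ⟨m₁, ⟨hm₁e, hm₁π⟩, hm₁u⟩ := hu₁ T (F'.u 1) n fun g => by rw [← Category.assoc, hn, F'.hp]
    have hm₁a : ∀ g, m₁ ≫ ag g = F'.c 1 g := fun g => by rw [hag, ← Category.assoc, hm₁π, hn]
    have hm₁uu : ∀ g, m₁ ≫ uu g = F'.u g := fun g => by
      rw [← huu, ← Category.assoc, hm₁a, F'.hq 1 g (mul_one g)]
    have hm₁b : ∀ g, IsoG.res m₁ hm₁e (hm₁uu g) (b g) = F'.β 1 g (mul_one g) := fun g =>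
      IsoG.res_res_eq (hm₁a g) _ _ _ _ _
    have hm₁B : ∀ p g {q} (h : g * p = q), IsoG.res m₁ (hm₁uu p) (hm₁uu q) (B p q) = F'.β p g h := fun p g q h => by
      simp only [B]
      rw [IsoG.res_trans m₁ _ hm₁e, IsoG.res_symm m₁ hm₁e, hm₁b, hm₁b]
      exact (IsoG.eq_symm_trans _ (F'.β_trans (mul_one p) h h)).symm
    have hex' : ∀ i : G × G, ∃ w : T ⟶ E₂ i, w ≫ e₂ i = m₁ ∧ w ≫ c₂ i = F'.c i.1 i.2 := by
      rintro ⟨p, g⟩
      refine huniv₂ (p, g) m₁ (F'.c p g) ((F'.hp p g).trans (hm₁uu p).symm)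
        ((F'.hq p g rfl).trans (hm₁uu _).symm) ?_ fun hp => ?_
      · have h3 := congrArg (IsoG.res (𝟙 T) ((Category.id_comp _).trans (hm₁uu p).symm)
          ((Category.id_comp _).trans (hm₁uu (g * p)).symm)) (hm₁B p g rfl)
        rw [Fam.β, IsoG.res_res_eq (Category.id_comp _), IsoG.res_res_eq (Category.id_comp _)] at h3
        exact h3.symm
      · obtain rfl : p = 1 := hp
        exact (hm₁a g).symm
    choose w hw₁ hw₂ using hex'
    obtain ⟨m, ⟨hme, hmπ⟩, hmu⟩ := hu₂ T m₁ w hw₁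
    refine ⟨m, fun p g => ?_, fun m' hm' => ?_⟩
    · show m ≫ π₂ (p, g) ≫ c₂ (p, g) = _
      rw [← Category.assoc, hmπ, hw₂]
    · have hbase : m' ≫ e = m₁ := by
        have hn' : ∀ g, (m' ≫ e) ≫ π g = n g := fun g => hnu g _ (by
          have h4 : m' ≫ π₂ (1, g) ≫ c₂ (1, g) = F'.c 1 g := hm' 1 g
          rw [hone₂ (1, g) rfl, ← Category.assoc (π₂ (1, g)), hπ₂] at h4
          simpa only [Category.assoc, hag] using h4)
        refine hm₁u _ ⟨?_, hn'⟩
        rw [← hπ 1, ← Category.assoc, hn', ← Category.assoc, hn, F'.hp]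
      refine hmu m' ⟨hbase, fun i => hmono₂ i _ _ ?_ ?_⟩
      · rw [Category.assoc, hπ₂, hbase, hw₁]
      · rw [Category.assoc, hw₂]
        exact hm' i.1 i.2

end Groth.Agent.KPointChart
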