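import Groth.Agent.KPointChart.IsoDef
import Groth.Agent.ASt.PtsTop
import Groth.Agent.ASt.DiagRep
import Groth.Agent.ASt.Props
import Groth.Agent.ASp.FieldChart
import Groth.Agent.ASp.Glue
import Groth.Agent.ASp.SchDenseFlat
/-!
Isomorphisms between values of a chart: equality loci, local equality, lifting to charts, gluing.
-/

set_option autoImplicit false
set_option backward.isDefEq.respectTransparency false
set_option backward.isDefEq.respectTransparency.types false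
set_option linter.unusedSectionVars false
set_option linter.style.haveILetI false

universe u

open CategoryTheory CategoryTheory.Limits AlgebraicGeometry Opposite

namespace Groth.Agent.KPointChart

open Groth.Agent.ASt Groth.Agent.ASp

variable {S : Scheme.{u}} {𝒳 : AlgSt.Cat S} [h𝒳 : FibCat.IsFibGrpd 𝒳.p]

/-- The fixed locus of a vertical endomorphism is closed. -/
theorem exists_fixed (hd : AlgSt.RepByAlgSpWith AlgSp.IsSeparatedMor (FibCat.diag (FibCat.toSelf 𝒳)))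
    {y : 𝒳.obj} (s : y ⟶ y) (hs : 𝒳.p.map s = 𝟙 (𝒳.p.obj y)) :
    ∃ (E : Over S) (e : E ⟶ 𝒳.p.obj y), IsClosedImmersion e.left ∧
      pullHom y rfl e ≫ s = pullHom y rfl e ∧
      ∀ (a : 𝒳.obj) (φ : a ⟶ y), φ ≫ s = φ → ∃ k, k ≫ e = 𝒳.p.map φ := by
  let U := 𝒳.p.obj y
  let f := FibCat.diag (FibCat.toSelf 𝒳)
  let w : FibCat.overCat U ⥤ᵇ FibCat.fp (FibCat.toSelf 𝒳) (FibCat.toSelf 𝒳) :=
    BasedFunctor.comp (objFun y rfl) f
  obtain ⟨F, eF, he, hP⟩ := hd U w
  obtain ⟨hsh, hA, hsep⟩ := fibHas_of_rep (P := AlgSp.IsSeparatedMor) eF he hP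
  let p₀ : pull y rfl (𝟙 U) ⟶ y := pullHom y rfl (𝟙 U)
  have hp₀ : 𝒳.p.map p₀ = eqToHom (pull_base y rfl (𝟙 U)) := by simp [p₀, U]
  have hp₁ : 𝒳.p.map p₀ = 𝒳.p.map (p₀ ≫ s) := by rw [Functor.map_comp, hs, Category.comp_id]
  let φ₁ : w.obj (ov (𝟙 U)) ⟶ f.obj y := pairHom p₀ p₀ rfl
  let φ₂ : w.obj (ov (𝟙 U)) ⟶ f.obj y := pairHom p₀ (p₀ ≫ s) hp₁
  let c₁ : ClType (FibCat.fp w f) U := fpEl (𝟙 U) y rfl φ₁ hp₀
  let c₂ : ClType (FibCat.fp w f) U := fpEl (𝟙 U) y rfl φ₂ hp₀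
  have key : ∀ {T : Over S} (g : T ⟶ U), clMap g c₁ = clMap g c₂ ↔ pullHom y rfl g ≫ s = pullHom y rfl g := by
    intro T g
    let sg := facMap (pullHom y rfl g) (pullHom y rfl g ≫ s) (𝟙 _)
      (by rw [Category.id_comp, Functor.map_comp, hs, Category.comp_id])
    have hsg : sg ≫ pullHom y rfl g = pullHom y rfl g ≫ s := facMap_comp _ _ _ _
    have hm : 𝒳.p.map (𝟙 (pull y rfl g)) = 𝒳.p.map sg := (𝒳.p.map_id _).trans (map_facMap _ _ _ _).symm
    have hid : 𝒳.p.map (𝟙 (pull y rfl g)) = eqToHom rfl := 𝒳.p.map_id _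
    have hv : objMap y rfl (ovHom g (Category.comp_id g)) ≫ p₀ = pullHom y rfl g := objMap_comp _ _ _
    have e1 : clMap g c₁ = fpEl g (pull y rfl g) (pull_base _ _ _) (pairHom (𝟙 _) (𝟙 _) rfl)
        (hid.trans rfl) :=
      clMap_fpEl g (Category.comp_id g) (pullHom y rfl g)
        (fp_hom_ext (hv.trans (Category.id_comp _).symm) (hv.trans (Category.id_comp _).symm))
    have e2 : clMap g c₂ = fpEl g (pull y rfl g) (pull_base _ _ _) (pairHom (𝟙 _) sg hm)
        (hid.trans rfl) :=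
      clMap_fpEl g (Category.comp_id g) (pullHom y rfl g)
        (fp_hom_ext (hv.trans (Category.id_comp _).symm)
          ((Category.assoc _ _ _).symm.trans ((congrArg (· ≫ s) hv).trans hsg.symm)))
    rw [e1, e2, fpEl_eq_iff]
    constructor
    · rintro ⟨a, -, ha⟩
      have a1 : 𝟙 _ ≫ a = 𝟙 _ := congrArg (fun k => k.hom.fst) ha
      have a2 : 𝟙 _ ≫ a = sg := congrArg (fun k => k.hom.snd) ha
      rw [← hsg, ← a2, a1, Category.id_comp]
    · intro h
      have : sg = 𝟙 _ := hom_ext (pullHom y rfl g) hm.symm (by rw [hsg, h, Category.id_comp])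
      refine ⟨𝟙 _, hid.trans rfl, fp_hom_ext (Category.comp_id _) ((Category.comp_id _).trans this.symm)⟩
  let P : AlgSp.Sp S := ⟨fib w f, hsh⟩
  let s₁ : (AlgSp.yon S).obj U ⟶ P := ObjectProperty.homMk (uliftYonedaEquiv.{u + 1}.symm c₁)
  let s₂ : (AlgSp.yon S).obj U ⟶ P := ObjectProperty.homMk (uliftYonedaEquiv.{u + 1}.symm c₂)
  let π : P ⟶ (AlgSp.yon S).obj U := ObjectProperty.homMk (fibπ w f)
  have hπ : ∀ (c : ClType (FibCat.fp w f) U), fpHom c = 𝟙 U →
      (ObjectProperty.homMk (uliftYonedaEquiv.{u + 1}.symm c) : (AlgSp.yon S).obj U ⟶ P) ≫ π = 𝟙 _ :=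
    fun c h => by
      apply ObjectProperty.hom_ext
      refine uliftYonedaEquiv.{u + 1}.injective ?_
      refine congrArg ULift.up ?_
      change fpHom (clMap (𝟙 U) c) = 𝟙 U
      rw [clMap_id, h]
  obtain ⟨E, e, he', ⟨hl⟩⟩ := Groth.Agent.ASp.exists_isLimit_fork hA s₁ s₂
  have h₁ : s₁ ≫ π = 𝟙 _ := hπ _ (fpHom_fpEl _ _ _ _ _)
  have h₂ : s₂ ≫ π = 𝟙 _ := hπ _ (fpHom_fpEl _ _ _ _ _)
  refine ⟨E, e, hsep.2 (pullback.lift s₁ s₂ (h₁.trans h₂.symm)) _ e
    (isPullback_diagonal_of_isLimit_fork h₁ h₂ he' hl), ?_, fun a φ hφ => ?_⟩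
  · refine (key e).1 ?_
    have h : clMap (𝟙 E ≫ e) c₁ = clMap (𝟙 E ≫ e) c₂ :=
      congrArg (fun φ : (AlgSp.yon S).obj E ⟶ P => φ.hom.app (op E) ⟨𝟙 E⟩) he'
    rwa [Category.id_comp] at h
  · let g : 𝒳.p.obj a ⟶ U := 𝒳.p.map φ
    have hg : pullHom y rfl g ≫ s = pullHom y rfl g := by
      rw [← facMap_comp φ (pullHom y rfl g) (eqToHom (pull_base y rfl g)) (by simp [g]), Category.assoc, hφ]
    have hfac : (AlgSp.yon S).map g ≫ s₁ = (AlgSp.yon S).map g ≫ s₂ := by
      apply ObjectProperty.hom_ext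
      refine uliftYonedaEquiv.{u + 1}.injective ?_
      change clMap (𝟙 _ ≫ g) c₁ = clMap (𝟙 _ ≫ g) c₂
      rw [Category.id_comp, (key g).2 hg]
    obtain ⟨k, hk⟩ := (AlgSp.yon S).map_surjective (Fork.IsLimit.lift hl _ hfac)
    exact ⟨k, (AlgSp.yon S).map_injective (((AlgSp.yon S).map_comp k e).trans
      ((congrArg (· ≫ (AlgSp.yon S).map e) hk).trans (Fork.IsLimit.lift_ι' hl _ hfac)))⟩

variable {U : Over S} {a : FibCat.overCat U ⥤ᵇ 𝒳}

/-- Two isomorphisms between values agree on a closed subscheme. -/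
theorem exists_eqLocus (hd : AlgSt.RepByAlgSpWith AlgSp.IsSeparatedMor (FibCat.diag (FibCat.toSelf 𝒳)))
    {T : Over S} {k k' : T ⟶ U} (β β' : IsoG a k k') :
    ∃ (E : Over S) (e : E ⟶ T), IsClosedImmersion e.left ∧
      IsoG.res e rfl rfl β = IsoG.res e rfl rfl β' ∧
      ∀ {V : Over S} (g : V ⟶ T), IsoG.res g rfl rfl β = IsoG.res g rfl rfl β' → ∃ m, m ≫ e = g := by
  let s : a.obj (ov k) ⟶ a.obj (ov k) := β.hom ≫ inv β'.hom
  have hs : 𝒳.p.map s = 𝟙 _ := by
    simp only [s, Functor.map_comp, Functor.map_inv, β.vert, β'.vert]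
    simp
  obtain ⟨E, e, hcl, he, hfac⟩ := exists_fixed hd s hs
  let ε : 𝒳.p.obj (a.obj (ov k)) ⟶ T := eqToHom (base_eq a k)
  haveI : IsIso ε.left := inferInstanceAs (IsIso ((Over.forget S).map ε))
  haveI := hcl
  have fix_iff : ∀ {V : Over S} (g : V ⟶ T), IsoG.res g rfl rfl β = IsoG.res g rfl rfl β' ↔
      a.map (ovHom g rfl : ov (g ≫ k) ⟶ ov k) ≫ s = a.map (ovHom g rfl) := by
    intro V g
    constructor
    · intro h
      have h1 := IsoG.res_comp g rfl rfl β
      have h2 := IsoG.res_comp g rfl rfl β'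
      rw [h, h2] at h1
      simp only [s]
      rw [← Category.assoc, ← h1, Category.assoc, IsIso.hom_inv_id, Category.comp_id]
    · intro h
      refine IsoG.eq_res g rfl rfl β' _ ?_
      rw [IsoG.res_comp]
      simp only [s] at h
      rw [← Category.assoc, IsIso.comp_inv_eq] at h
      exact h
  refine ⟨E, e ≫ ε, ?_, ?_, fun {V} g hg => ?_⟩
  · change IsClosedImmersion (e.left ≫ ε.left)
    infer_instance
  · refine (fix_iff (e ≫ ε)).2 ?_
    have hc : eqToHom (((a.w_obj (ov ((e ≫ ε) ≫ k))).trans (ov_base _)).trans (pull_base (a.obj (ov k)) rfl e).symm) ≫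
        𝒳.p.map (pullHom (a.obj (ov k)) rfl e) = 𝒳.p.map (a.map (ovHom (e ≫ ε) rfl : ov ((e ≫ ε) ≫ k) ⟶ ov k)) := by
      simp [map_w, map_pullHom, ov_p_map, ε]
    obtain ⟨χ, hχ⟩ : ∃ χ, χ ≫ pullHom (a.obj (ov k)) rfl e =
        a.map (ovHom (e ≫ ε) rfl : ov ((e ≫ ε) ≫ k) ⟶ ov k) := ⟨_, facMap_comp _ _ _ hc⟩
    calc a.map (ovHom (e ≫ ε) rfl : ov ((e ≫ ε) ≫ k) ⟶ ov k) ≫ s
        = (χ ≫ pullHom (a.obj (ov k)) rfl e) ≫ s := (congrArg (· ≫ s) hχ).symm
      _ = χ ≫ pullHom (a.obj (ov k)) rfl e := (Category.assoc χ _ _).trans (congrArg (χ ≫ ·) he)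
      _ = _ := hχ
  · obtain ⟨m, hm⟩ := hfac _ _ ((fix_iff g).1 hg)
    refine ⟨eqToHom (base_eq a (g ≫ k)).symm ≫ m, ?_⟩
    rw [Category.assoc, ← Category.assoc m, hm]
    simp [map_w, ov_p_map, ε]

/-- Isomorphisms between values agreeing locally agree. -/
theorem ext_loc (hd : AlgSt.RepByAlgSpWith AlgSp.IsSeparatedMor (FibCat.diag (FibCat.toSelf 𝒳)))
    {T : Over S} {k k' : T ⟶ U} {β β' : IsoG a k k'}
    (h : ∀ t : ↥T.left, ∃ O : T.left.Opens, t ∈ O ∧
      IsoG.res (openInc O) rfl rfl β = IsoG.res (openInc O) rfl rfl β') : β = β' := by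
  obtain ⟨E, e, hcl, he, hfac⟩ := exists_eqLocus hd β β'
  haveI := hcl
  choose O hO hβ using h
  choose m hm using fun t => hfac _ (hβ t)
  have hmem : ∀ t, t ∈ O t := hO
  haveI : Surjective e.left := ⟨fun t => ⟨(m t).left ⟨t, hO t⟩, by
    rw [← Scheme.Hom.comp_apply, ← Over.comp_left, hm]
    rfl⟩⟩
  haveI : IsOpenImmersion e.left := by
    refine (IsZariskiLocalAtTarget.iff_of_iSup_eq_top (P := @IsOpenImmersion) O ?_).2 fun t => ?_
    · exact eq_top_iff.2 fun t _ => TopologicalSpace.Opens.mem_iSup.2 ⟨t, hO t⟩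
    · have hl : (O t).ι = (m t).left ≫ e.left := by rw [← Over.comp_left, hm]; rfl
      haveI : IsSplitEpi (e.left ∣_ O t) := ⟨⟨{
        section_ := (isPullback_morphismRestrict e.left (O t)).lift (𝟙 _) (m t).left (by
          rw [Category.id_comp, hl])
        id := (isPullback_morphismRestrict e.left (O t)).lift_fst _ _ _ }⟩⟩
      haveI : IsClosedImmersion (e.left ∣_ O t) := IsZariskiLocalAtTarget.restrict hcl (O t)
      haveI : IsIso (e.left ∣_ O t) := isIso_of_mono_of_isSplitEpi _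
      infer_instance
  haveI : IsIso e.left := IsOpenImmersion.isIso e.left
  haveI : IsIso e := by
    haveI : IsIso ((Over.forget S).map e) := ‹IsIso e.left›
    exact isIso_of_reflects_iso e (Over.forget S)
  have key : ∀ (b : IsoG a k k'), IsoG.res (inv e ≫ e) (by simp) (by simp) b = b := fun b => by
    refine (IsoG.eq_res _ _ _ b b ?_).symm
    have h1 : ∀ (l : T ⟶ U) (hl : (inv e ≫ e) ≫ l = l), ovHom (inv e ≫ e) hl = 𝟙 (ov l) := fun l hl =>
      Over.OverMorphism.ext (by simp [ovHom])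
    rw [h1, h1, CategoryTheory.Functor.map_id, CategoryTheory.Functor.map_id, Category.comp_id, Category.id_comp]
  rw [← key β, ← key β', ← IsoG.res_res (inv e) (by simp) (by simp) e rfl rfl β,
    ← IsoG.res_res (inv e) (by simp) (by simp) e rfl rfl β', he]

variable (a) in
/-- An affine chart of isomorphisms between values, with lifting schemes. -/
structure RChart where
  /-- the scheme -/
  A : Over S
  isAffine : IsAffine A.left
  /-- the source -/
  p : A ⟶ U
  /-- the target -/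
  q : A ⟶ U
  /-- the isomorphism -/
  α : IsoG a p q
  smooth : Smooth p.left
  lift : ∀ {T : Over S}, IsAffine T.left → ∀ {l l' : T ⟶ U} (β : IsoG a l l'),
    ∃ (E : Over S) (e : E ⟶ T) (c : E ⟶ A) (h : c ≫ p = e ≫ l) (h' : c ≫ q = e ≫ l'),
      IsAffine E.left ∧ Etale e.left ∧ IsoG.res c h h' α = IsoG.res e rfl rfl β ∧
      (∀ {V : Over S} (g : V ⟶ T) (d : V ⟶ A) (k : d ≫ p = g ≫ l) (k' : d ≫ q = g ≫ l'),
        IsoG.res d k k' α = IsoG.res g rfl rfl β → ∃ m : V ⟶ E, m ≫ e = g ∧ m ≫ c = d) ∧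
      ∀ {V : Over S} (m m' : V ⟶ E), m ≫ e = m' ≫ e → m ≫ c = m' ≫ c → m = m'

/-- Every isomorphism over a field lies on an affine chart. -/
theorem exists_rchart [IsAffine U.left] (ha : AlgSt.RepByAlgSpWith (AlgSp.LocP @Smooth) a)
    (hd : AlgSt.RepByAlgSpWith AlgSp.IsSeparatedMor (FibCat.diag (FibCat.toSelf 𝒳)))
    {K : Type u} [Field K] {str : Spec (CommRingCat.of K) ⟶ S} {g g' : Over.mk str ⟶ U} (β₀ : IsoG a g g') :
    ∃ (C : RChart a) (c₀ : Over.mk str ⟶ C.A) (h : c₀ ≫ C.p = g) (h' : c₀ ≫ C.q = g'),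
      IsoG.res c₀ h h' C.α = β₀ := by
  obtain ⟨hs, hA, hP⟩ := (repByAlgSpWith_iff.1 ha).2 U a
  let F : AlgSp.Sp S := ⟨fib a a, hs⟩
  let π : F ⟶ (AlgSp.yon S).obj U := ObjectProperty.homMk (fibπ a a)
  obtain ⟨A, q₀, c₀, hAff, hq₀, hc₀⟩ := FieldChart.exists_affine_chart hA (homOf (toEl β₀) : (AlgSp.yon S).obj _ ⟶ F)
  obtain ⟨p, q, α, hα⟩ := exists_toEl (secOf q₀ : ClType (FibCat.fp a a) A)
  have hp : q₀ ≫ π = (AlgSp.yon S).map p := secOf_injective (by
    rw [secOf_comp]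
    change (fibπ a a).app (op A) (secOf q₀) = _
    rw [fibπ_app, ← hα, fpHom_toEl]
    exact congrArg ULift.up (Category.id_comp p).symm)
  have key : ∀ {T : Over S} (r : T ⟶ A), secOf ((AlgSp.yon S).map r ≫ q₀) =
      toEl (IsoG.res r rfl rfl α) := fun r => by
    rw [secOf_map, ← hα]
    exact clMap_toEl r rfl rfl α
  haveI := hAff
  haveI : IsSeparated U.hom := by
    haveI : IsSeparated (U.hom ≫ terminal.from S) := by
      rw [show U.hom ≫ terminal.from S = terminal.from U.left from Subsingleton.elim _ _]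
      infer_instance
    exact IsSeparated.of_comp U.hom (terminal.from S)
  refine ⟨⟨A, hAff, p, q, α, prop_chart hq₀ hp hP, fun {T} hT {l l'} β => ?_⟩, c₀, ?_⟩
  · haveI := hT
    let P₁ := pullback l p
    haveI : IsAffineHom p.left := inferInstance
    haveI : IsAffineHom (pullback.fst l p).left :=
      MorphismProperty.of_isPullback ((IsPullback.of_hasPullback l p).map (Over.forget S)).flip
        (show IsAffineHom ((Over.forget S).map p) from ‹IsAffineHom p.left›)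
    haveI : IsAffine P₁.left := isAffine_of_isAffineHom (pullback.fst l p).left
    let P₂ := equalizer (pullback.fst l p ≫ l') (pullback.snd l p ≫ q)
    let j : P₂ ⟶ P₁ := equalizer.ι _ _
    haveI : IsClosedImmersion j.left := isClosedImmersion_equalizer_ι_left _ _
    haveI : IsAffine P₂.left := isAffine_of_isAffineHom j.left
    have hj1 : (j ≫ pullback.snd l p) ≫ p = (j ≫ pullback.fst l p) ≫ l := by
      rw [Category.assoc, Category.assoc, pullback.condition]
    have hj2 : (j ≫ pullback.snd l p) ≫ q = (j ≫ pullback.fst l p) ≫ l' := by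
      rw [Category.assoc, Category.assoc]; exact (equalizer.condition _ _).symm
    obtain ⟨E, i, hi, hie, hiu⟩ := exists_eqLocus hd (IsoG.res (j ≫ pullback.snd l p) hj1 hj2 α)
      (IsoG.res (j ≫ pullback.fst l p) rfl rfl β)
    haveI := hi
    haveI : IsAffine E.left := isAffine_of_isAffineHom i.left
    obtain ⟨e, he⟩ : ∃ e, e = i ≫ j ≫ pullback.fst l p := ⟨_, rfl⟩
    obtain ⟨c, hc⟩ : ∃ c, c = i ≫ j ≫ pullback.snd l p := ⟨_, rfl⟩
    have h : c ≫ p = e ≫ l := by rw [hc, he]; simp only [Category.assoc, pullback.condition]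
    have h' : c ≫ q = e ≫ l' := by
      rw [hc, he]
      simp only [Category.assoc]
      exact congrArg (i ≫ ·) (equalizer.condition _ _).symm
    have heq : IsoG.res c h h' α = IsoG.res e rfl rfl β := by
      have h0 := hie
      rw [IsoG.res_res_eq (g'' := c) hc.symm, IsoG.res_res_eq (g'' := e) he.symm] at h0
      have h1 := congrArg (IsoG.res (𝟙 E) (show 𝟙 E ≫ i ≫ (j ≫ pullback.fst l p) ≫ l = e ≫ l by
          rw [he]; simp) (show 𝟙 E ≫ i ≫ (j ≫ pullback.fst l p) ≫ l' = e ≫ l' by rw [he]; simp)) h0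
      rw [IsoG.res_res_eq (g'' := c) (Category.id_comp c), IsoG.res_res_eq (g'' := e) (Category.id_comp e)] at h1
      exact h1
    have huniv : ∀ {V : Over S} (g : V ⟶ T) (d : V ⟶ A) (k : d ≫ p = g ≫ l) (k' : d ≫ q = g ≫ l'),
        IsoG.res d k k' α = IsoG.res g rfl rfl β → ∃ m : V ⟶ E, m ≫ e = g ∧ m ≫ c = d := by
      intro V g d k k' hh
      let m₁ : V ⟶ P₁ := pullback.lift g d k.symm
      let m₂ : V ⟶ P₂ := equalizer.lift m₁ (by
        rw [pullback.lift_fst_assoc, pullback.lift_snd_assoc, k'])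
      have hm1 : m₂ ≫ j ≫ pullback.fst l p = g := by simp [m₂, j, m₁]
      have hm2 : m₂ ≫ j ≫ pullback.snd l p = d := by simp [m₂, j, m₁]
      obtain ⟨m, hm⟩ := hiu m₂ (by
        have h1 := congrArg (IsoG.res (𝟙 V)
          (show 𝟙 V ≫ g ≫ l = m₂ ≫ (j ≫ pullback.fst l p) ≫ l by rw [← hm1]; simp)
          (show 𝟙 V ≫ g ≫ l' = m₂ ≫ (j ≫ pullback.fst l p) ≫ l' by rw [← hm1]; simp)) hh
        rw [IsoG.res_res_eq (g'' := d) (Category.id_comp d), IsoG.res_res_eq (g'' := g) (Category.id_comp g)] at h1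
        rw [IsoG.res_res_eq (g'' := d) hm2, IsoG.res_res_eq (g'' := g) hm1]
        exact h1)
      exact ⟨m, by rw [he, ← Category.assoc, hm, hm1], by rw [hc, ← Category.assoc, hm, hm2]⟩
    have hmono : ∀ {V : Over S} (m m' : V ⟶ E), m ≫ e = m' ≫ e → m ≫ c = m' ≫ c → m = m' := by
      intro V m m' h1 h2
      haveI : Mono i := Over.mono_of_mono_left _
      refine (cancel_mono i).1 (equalizer.hom_ext (pullback.hom_ext ?_ ?_))
      · simpa [he, j, Category.assoc] using h1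
      · simpa [hc, j, Category.assoc] using h2
    refine ⟨E, e, c, h, h', inferInstance, ?_, heq, huniv, hmono⟩
    -- comparison with the fibre product
    let r : (AlgSp.yon S).obj T ⟶ F := homOf (toEl β)
    have keyr : ∀ {V : Over S} (g : V ⟶ T), secOf ((AlgSp.yon S).map g ≫ r) = toEl (IsoG.res g rfl rfl β) :=
      fun g => by
        rw [secOf_map, secOf_homOf]
        exact clMap_toEl g rfl rfl β
    obtain ⟨W, fst, snd, sq⟩ := exists_isPullback_yon hq₀.1 r
    haveI : Etale snd.left := hq₀.2 _ _ _ sq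
    have hW : toEl (IsoG.res fst rfl rfl α) = toEl (IsoG.res snd rfl rfl β) := by
      rw [← key, ← keyr, sq.w]
    obtain ⟨k, k', hk⟩ := toEl_eq hW
    obtain ⟨m, hm1, hm2⟩ := huniv snd fst k k' (by rw [← hk]; exact (IsoG.res_res_eq (Category.id_comp _) _ _ _ _ α).symm)
    have hw : (AlgSp.yon S).map c ≫ q₀ = (AlgSp.yon S).map e ≫ r := secOf_injective (by
      rw [key, keyr, ← heq, ← clMap_toEl c h h' α, ← clMap_toEl c rfl rfl α])
    obtain ⟨n, hn⟩ := (AlgSp.yon S).map_surjective (sq.lift ((AlgSp.yon S).map c) ((AlgSp.yon S).map e) hw)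
    have hn1 : n ≫ fst = c := (AlgSp.yon S).map_injective (by rw [Functor.map_comp, hn, sq.lift_fst])
    have hn2 : n ≫ snd = e := (AlgSp.yon S).map_injective (by rw [Functor.map_comp, hn, sq.lift_snd])
    have hmn : m ≫ n = 𝟙 W := (AlgSp.yon S).map_injective (sq.hom_ext
      (by rw [← Functor.map_comp, Category.assoc, hn1, hm2, CategoryTheory.Functor.map_id, Category.id_comp])
      (by rw [← Functor.map_comp, Category.assoc, hn2, hm1, CategoryTheory.Functor.map_id, Category.id_comp]))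
    have hnm : n ≫ m = 𝟙 E := hmono _ _ (by rw [Category.assoc, hm1, hn2, Category.id_comp])
      (by rw [Category.assoc, hm2, hn1, Category.id_comp])
    haveI : IsIso n := ⟨m, hnm, hmn⟩
    haveI : IsIso n.left := inferInstanceAs (IsIso ((Over.forget S).map n))
    rw [← hn2, Over.comp_left]
    infer_instance
  · have h0 := congrArg secOf hc₀
    rw [key, secOf_homOf] at h0
    obtain ⟨e₁, e₂, h₃⟩ := toEl_eq h0
    refine ⟨e₁, e₂, ?_⟩
    rw [← h₃]
    exact (IsoG.res_res_eq (Category.id_comp _) _ _ _ _ α).symm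

/-- Gluing isomorphisms between values over a finite disjoint union. -/
theorem exists_sigma_iso (ha : AlgSt.RepByAlgSp1 a) {ι : Type u} {P : Over S} (C : ι → Over S) (ζ : ∀ i, C i ⟶ P)
    [IsIso (Limits.Sigma.desc fun i => (ζ i).left)] {k k' : P ⟶ U}
    (β : ∀ i, IsoG a (ζ i ≫ k) (ζ i ≫ k')) :
    ∃ Θ : IsoG a k k', ∀ i, IsoG.res (ζ i) rfl rfl Θ = β i := by
  obtain ⟨hs, hA⟩ := (repByAlgSp1_iff.1 ha).2 U a
  let F : AlgSp.Sp S := ⟨fib a a, hs⟩
  let Z : Over S := Over.mk (Limits.Sigma.desc fun i => (C i).hom)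
  let j : ∀ i, C i ⟶ Z := fun i => Over.homMk (Sigma.ι (fun i => (C i).left) i) (Sigma.ι_desc _ _)
  let d : Z ⟶ P := Over.homMk (Limits.Sigma.desc fun i => (ζ i).left) (Sigma.hom_ext _ _ fun i => by
    show Sigma.ι (fun i => (C i).left) i ≫ Limits.Sigma.desc _ ≫ P.hom = _
    rw [Sigma.ι_desc_assoc, Over.w]
    exact (Sigma.ι_desc (fun i => (C i).hom) i).symm)
  haveI : IsIso d := by
    haveI : IsIso ((Over.forget S).map d) := ‹IsIso (Limits.Sigma.desc fun i => (ζ i).left)›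
    exact isIso_of_reflects_iso d (Over.forget S)
  have hjd : ∀ i, j i ≫ d = ζ i := fun i => Over.OverMorphism.ext (Sigma.ι_desc _ _)
  obtain ⟨p, hp⟩ := exists_sigma_desc Z C j rfl (fun i => Category.comp_id _)
    (fun i => (homOf (toEl (β i)) : (AlgSp.yon S).obj _ ⟶ F))
  obtain ⟨g, g', b, hb⟩ := exists_toEl (secOf p : ClType (FibCat.fp a a) Z)
  have key : ∀ i, ∃ (e₁ : j i ≫ g = ζ i ≫ k) (e₂ : j i ≫ g' = ζ i ≫ k'), IsoG.res (j i) e₁ e₂ b = β i := fun i => by
    have h1 := congrArg secOf (hp i)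
    rw [secOf_map, secOf_homOf, ← hb] at h1
    have h2 := (clMap_toEl (j i) rfl rfl b).symm.trans h1
    obtain ⟨e₁, e₂, h₃⟩ := toEl_eq h2
    refine ⟨e₁, e₂, ?_⟩
    rw [← h₃]
    exact (IsoG.res_res_eq (Category.id_comp _) _ _ _ _ b).symm
  choose e₁ e₂ hβ using key
  have jext : ∀ {x y : Z ⟶ U}, (∀ i, j i ≫ x = j i ≫ y) → x = y := fun {x y} h =>
    Over.OverMorphism.ext (Sigma.hom_ext _ _ fun i => congrArg (·.left) (h i))
  have hk : inv d ≫ g = k := by
    rw [IsIso.inv_comp_eq]; exact jext fun i => by rw [e₁, reassoc_of% (hjd i)]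
  have hk' : inv d ≫ g' = k' := by
    rw [IsIso.inv_comp_eq]; exact jext fun i => by rw [e₂, reassoc_of% (hjd i)]
  refine ⟨IsoG.res (inv d) hk hk' b, fun i => ?_⟩
  rw [IsoG.res_res_eq (g'' := j i) (by rw [← hjd i, Category.assoc, IsIso.hom_inv_id, Category.comp_id]), hβ]

end Groth.Agent.KPointChart
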