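import Groth.Agent.ASp.HenselLift
import Groth.Agent.ASt.Rep
import Groth.Agent.ASt.Props
/-!
Values at henselian local rings lift through smooth charts from the closed point.
-/

set_option autoImplicit false
set_option backward.isDefEq.respectTransparency false
set_option backward.isDefEq.respectTransparency.types false
set_option linter.style.haveILetI false

universe u

open CategoryTheory CategoryTheory.Limits AlgebraicGeometry IsLocalRing

namespace Groth.Agent.KPointChart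

open Groth.Agent.ASp.HenselLift (quo quoMap)

variable {S : Scheme.{u}} {𝒳 : AlgSt.Cat S} [h𝒳 : FibCat.IsFibGrpd 𝒳.p]

/-- A lift of the closed point through a smooth chart extends to the spectrum of the henselian local ring. -/
theorem exists_lift_henselian {U : Over S} (p : FibCat.overCat U ⥤ᵇ 𝒳)
    (hp : AlgSt.RepByAlgSpWith (AlgSp.LocP @Smooth) p) {R : Type u} [CommRing R] [HenselianLocalRing R]
    (str : Spec (CommRingCat.of R) ⟶ S) (z : FibCat.overCat (Over.mk str) ⥤ᵇ 𝒳)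
    (u : quo str (maximalIdeal R) ⟶ U)
    (w : Nonempty (BasedFunctor.comp (AlgSt.overMap u) p ≅
      BasedFunctor.comp (AlgSt.overMap (quoMap str (maximalIdeal R))) z)) :
    ∃ g : Over.mk str ⟶ U, Nonempty (BasedFunctor.comp (AlgSt.overMap g) p ≅ z) := by
  obtain ⟨-, hfib⟩ := ASt.repByAlgSpWith_iff.1 hp
  haveI : FibCat.IsFibGrpd (FibCat.fp z p).p := ASt.isFibGrpd_fp
  let T : Over S := Over.mk str
  let T₀ : Over S := quo str (maximalIdeal R)
  let i : T₀ ⟶ T := quoMap str (maximalIdeal R)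
  obtain ⟨hs, hA, hπ⟩ := hfib T z
  let F : AlgSp.Sp S := ⟨ASt.fib z p, hs⟩
  let π : F ⟶ (AlgSp.yon S).obj T := ObjectProperty.homMk (ASt.fibπ z p)
  obtain ⟨w⟩ := w
  let φ₀ : z.obj (ASt.ov (𝟙 T₀ ≫ i)) ⟶ p.obj (ASt.ov (𝟙 T₀ ≫ u)) := w.inv.toNatTrans.app (ASt.ov (𝟙 T₀))
  have hφ₀ : 𝒳.p.map φ₀ = eqToHom (((z.w_obj (ASt.ov (𝟙 T₀ ≫ i))).trans (ASt.ov_base (𝟙 T₀ ≫ i))).trans
      ((p.w_obj (ASt.ov (𝟙 T₀ ≫ u))).trans (ASt.ov_base (𝟙 T₀ ≫ u))).symm) := by
    have := BasedNatTrans.isHomLift w.inv (ASt.ov_base (𝟙 T₀))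
    exact ASt.map_of_isHomLift_id (R := T₀) φ₀
  let c₀ : ASt.ClType (FibCat.fp z p) T₀ := ASt.fpEl (𝟙 T₀ ≫ i) (ASt.ov (𝟙 T₀ ≫ u)) rfl φ₀ hφ₀
  let p₀ : (AlgSp.yon S).obj T₀ ⟶ F := (AlgSp.J S).uliftYonedaEquiv.{u+1}.symm c₀
  have hp₀ : p₀ ≫ π = (AlgSp.yon S).map i ≫ 𝟙 _ := by
    rw [Category.comp_id, GrothendieckTopology.uliftYonedaEquiv_symm_naturality_right]
    apply (AlgSp.J S).uliftYonedaEquiv.{u+1}.injective
    rw [Equiv.apply_symm_apply]
    refine Eq.trans (congrArg ULift.up ((ASt.fpHom_fpEl _ _ _ _ _).trans (Category.id_comp i))) ?_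
    exact congrArg ULift.up (Category.id_comp i).symm
  obtain ⟨l, hl1, -⟩ := ASp.HenselLift.exists_lift_of_smooth str hA (AlgSp.IsAlgSpace.yon_obj _) π hπ (𝟙 _) p₀ hp₀
  let c : ASt.ClType (FibCat.fp z p) T := (AlgSp.J S).uliftYonedaEquiv.{u+1} l
  have hck : ASt.fpHom c = 𝟙 T := by
    have := congrArg (AlgSp.J S).uliftYonedaEquiv.{u+1} hl1
    rw [GrothendieckTopology.uliftYonedaEquiv_comp] at this
    exact congrArg ULift.down this
  obtain ⟨k, x, hx, φ, hφ, hcx⟩ := ASt.fpEl_exists c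
  rw [hcx, ASt.fpHom_fpEl] at hck
  subst hck
  obtain ⟨xl, xr, xh⟩ := x
  change xl = T at hx
  subst hx
  haveI := ASt.isIso_of_vert φ hφ
  have hobj : (BasedFunctor.comp (AlgSt.overMap (show T ⟶ U from xh)) p).obj (ASt.ov (𝟙 T)) =
      p.obj ⟨T, xr, xh⟩ := by
    show p.obj (Over.mk (𝟙 T ≫ xh)) = p.obj ⟨T, xr, xh⟩
    rw [Category.id_comp]
    rfl
  exact ⟨xh, ⟨ASt.funIso (eqToHom hobj ≫ inv φ) (by simp [hφ, eqToHom_map])⟩⟩

end Groth.Agent.KPointChart
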