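import Groth.Agent.KPointChart.Main
import Groth.Agent.ASp.HenselFamily
/-!
Values at a field form a set in the base universe up to isomorphism.
-/

set_option autoImplicit false
set_option backward.isDefEq.respectTransparency false
set_option backward.isDefEq.respectTransparency.types false
set_option linter.unusedSectionVars false
set_option linter.style.haveILetI false
set_option maxHeartbeats 800000

universe u

open CategoryTheory CategoryTheory.Limits AlgebraicGeometry Opposite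

namespace Groth.Agent.KPointChart

open Groth.Agent.ASt Groth.Agent.ASp Groth.Agent.RepOne

variable {S : Scheme.{u}} {𝒳 : AlgSt.Cat S} [h𝒳 : FibCat.IsFibGrpd 𝒳.p]

/-- The structure map of an extension of a field inside a separable closure. -/
noncomputable abbrev subStr (k : Type u) [Field k] (sk : Spec (CommRingCat.of k) ⟶ S)
    (L : IntermediateField k (SeparableClosure k)) : Spec (CommRingCat.of L) ⟶ S :=
  Spec.map (CommRingCat.ofHom (algebraMap k L)) ≫ sk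

/-- Points over a field lift to an atlas over a finite Galois subextension of a separable closure. -/
theorem exists_point_atlas {W₀ : Over S} {a₀ : FibCat.overCat W₀ ⥤ᵇ 𝒳}
    (ha : AlgSt.RepByAlgSpWith (AlgSp.LocP @Smooth) a₀) (has : AlgSt.RepByAlgSpWith AlgSp.IsSurjectiveMor a₀)
    (k : Type u) [Field k] (sk : Spec (CommRingCat.of k) ⟶ S) (x : FibCat.overCat (Over.mk sk) ⥤ᵇ 𝒳) :
    ∃ (L : IntermediateField k (SeparableClosure k)) (_ : FiniteDimensional k L) (_ : IsGalois k L)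
      (π : Over.mk (subStr k sk L) ⟶ Over.mk sk) (u₀ : Over.mk (subStr k sk L) ⟶ W₀)
      (φ₀ : x.obj (ov π) ⟶ a₀.obj (ov u₀)),
      π.left = Spec.map (CommRingCat.ofHom (algebraMap k L)) ∧
        𝒳.p.map φ₀ = eqToHom ((base_eq x π).trans (base_eq a₀ u₀).symm) := by
  obtain ⟨V, l, hl, hls, u, φ, hφ⟩ := exists_lift_atlas ha has x
  haveI := hl
  haveI := hls
  obtain ⟨v, -⟩ := Surjective.surj (f := l.left) (default : PrimeSpectrum k)
  obtain ⟨L₀, _, _, σ, hfin, hsep, hσf, -⟩ :=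
    SmoothSliceLib.exists_spec_point_field k l.left ⊤ v trivial
  haveI := hfin
  haveI := hsep
  let e₀ : L₀ →ₐ[k] SeparableClosure k := IsSepClosed.lift
  haveI : FiniteDimensional k e₀.fieldRange := Module.Finite.equiv (AlgEquiv.ofInjectiveField e₀).toLinearEquiv
  let L := IntermediateField.normalClosure k e₀.fieldRange (SeparableClosure k)
  let e : L₀ →ₐ[k] L := AlgHom.codRestrict e₀ L.toSubalgebra
    (fun y => IntermediateField.le_normalClosure _ ⟨y, rfl⟩)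
  let σ' : Spec (CommRingCat.of L) ⟶ V.left := Spec.map (CommRingCat.ofHom e.toRingHom) ≫ σ
  have hσ' : σ' ≫ l.left = Spec.map (CommRingCat.ofHom (algebraMap k L)) := by
    show (Spec.map _ ≫ σ) ≫ l.left = _
    rw [Category.assoc, hσf, ← Spec.map_comp]
    congr 1
    exact CommRingCat.hom_ext e.comp_algebraMap
  let π : Over.mk (subStr k sk L) ⟶ Over.mk sk := Over.homMk (Spec.map (CommRingCat.ofHom (algebraMap k L))) rfl
  let σv : Over.mk (subStr k sk L) ⟶ V := Over.homMk σ' (by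
    show σ' ≫ V.hom = subStr k sk L
    rw [← Over.w l, ← Category.assoc, hσ']
    rfl)
  have hσl : σv ≫ l = π := Over.OverMorphism.ext hσ'
  exact ⟨L, inferInstance, inferInstance, π, σv ≫ u,
    facMap (a₀.map (ovHom σv rfl)) (x.map (ovHom σv hσl) ≫ φ)
      (eqToHom ((base_eq x π).trans (base_eq a₀ (σv ≫ u)).symm)) (by simp [map_w, hφ, ov_p_map]),
    rfl, map_facMap _ _ _ _⟩

/-- Values at a field are indexed by a set in the base universe up to isomorphism. -/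
theorem exists_small_kpoints (hst : Stk.IsStack (QuotSh.J Scheme.etalePrecoverage S) 𝒳)
    (hd : AlgSt.RepByAlgSpWith AlgSp.IsSeparatedMor (FibCat.diag (FibCat.toSelf 𝒳)))
    (hat : AlgSt.HasAtlas (AlgSp.LocP @Smooth) 𝒳) (k : Type u) [Field k] (sk : Spec (CommRingCat.of k) ⟶ S) :
    ∃ (ι : Type u) (pts : ι → (FibCat.overCat (Over.mk sk) ⥤ᵇ 𝒳)), ∀ x, ∃ i, Nonempty (pts i ≅ x) := by
  obtain ⟨W₀, a₀, ha, has⟩ := hat
  obtain ⟨hs, hA, -⟩ := (repByAlgSpWith_iff.1 ha).2 W₀ a₀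
  let F : AlgSp.Sp S := ⟨fib a₀ a₀, hs⟩
  choose J pt hpt using fun L : IntermediateField k (SeparableClosure k) =>
    HenselFamily.exists_small_points hA (subStr k sk L)
  let D : Type u := Σ L : IntermediateField k (SeparableClosure k),
    (Over.mk (subStr k sk L) ⟶ W₀) × ((L ≃ₐ[k] L) → J L)
  let Has : D → (FibCat.overCat (Over.mk sk) ⥤ᵇ 𝒳) → Prop := fun d x =>
    ∃ (V : GCov (Over.mk (subStr k sk d.1)) (Over.mk sk) (d.1 ≃ₐ[k] d.1)),
      V.π.left = Spec.map (CommRingCat.ofHom (algebraMap k d.1)) ∧ (∀ g, (V.σ g).left = specAct g) ∧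
      ∃ (δ : Family a₀ V d.2.1) (ψ : ∀ {T : Over S} (l : T ⟶ Over.mk (subStr k sk d.1)) {w : T ⟶ W₀}
          {m : T ⟶ Over.mk sk}, l ≫ d.2.1 = w → l ≫ V.π = m → (x.obj (ov m) ⟶ a₀.obj (ov w))),
        δ.Natural ∧
        (∀ {T : Over S} (l : T ⟶ Over.mk (subStr k sk d.1)) {w : T ⟶ W₀} {m : T ⟶ Over.mk sk}
          (hw : l ≫ d.2.1 = w) (hm : l ≫ V.π = m),
          𝒳.p.map (ψ l hw hm) = eqToHom ((base_eq x m).trans (base_eq a₀ w).symm)) ∧
        (∀ {T T' : Over S} (j : T' ⟶ T) (l : T ⟶ Over.mk (subStr k sk d.1)) {w : T ⟶ W₀} {m : T ⟶ Over.mk sk}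
          (hw : l ≫ d.2.1 = w) (hm : l ≫ V.π = m) {l' : T' ⟶ Over.mk (subStr k sk d.1)} (hl : j ≫ l = l')
          {w' : T' ⟶ W₀} {m' : T' ⟶ Over.mk sk} (ew : j ≫ w = w') (em : j ≫ m = m') (hw' : l' ≫ d.2.1 = w')
          (hm' : l' ≫ V.π = m'), ψ l' hw' hm' ≫ a₀.map (ovHom j ew) = x.map (ovHom j em) ≫ ψ l hw hm) ∧
        (∀ {T : Over S} (l l' : T ⟶ Over.mk (subStr k sk d.1)) (e : l ≫ V.π = l' ≫ V.π) {w w' : T ⟶ W₀}
          {m : T ⟶ Over.mk sk} (hw : l ≫ d.2.1 = w) (hw' : l' ≫ d.2.1 = w') (hm : l ≫ V.π = m) (hm' : l' ≫ V.π = m),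
          ψ l hw hm ≫ (δ l l' e hw hw').hom = ψ l' hw' hm') ∧
        ∀ g, (homOf (toEl (δ (𝟙 _) (V.σ g) (by rw [Category.id_comp, V.σ_π]) (Category.id_comp _) rfl)) :
          (AlgSp.yon S).obj _ ⟶ F) = pt d.1 (d.2.2 g)
  refine ⟨{d : D // ∃ x, Has d x}, fun d => d.2.choose, fun x => ?_⟩
  -- the data of a value
  obtain ⟨L, _, _, π, u₀, φ₀, hπ, hφ₀⟩ := exists_point_atlas ha has k sk x
  have hfree : ∀ g : L ≃ₐ[k] L, g ≠ 1 → Ideal.span (Set.range fun b : L => b - g • b) = ⊤ := fun g hg => by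
    obtain ⟨b, hb⟩ := not_forall.1 fun h => hg (AlgEquiv.ext h)
    exact Ideal.eq_top_of_isUnit_mem _ (Ideal.subset_span ⟨b, rfl⟩)
      (IsUnit.mk0 _ (sub_ne_zero.2 (Ne.symm hb)))
  obtain ⟨V, hVπ, hVσ⟩ := exists_gcov (G := L ≃ₐ[k] L) (A := k) (B := L) (algebraMap k L).injective hfree sk
    (subStr k sk L) rfl
  obtain rfl : V.π = π := Over.OverMorphism.ext (hVπ.trans hπ.symm)
  obtain ⟨δ, ψ, hn, -, hψ, hψn, hspec⟩ := exists_diff x a₀ u₀ φ₀ hφ₀
  choose r hr using fun g : L ≃ₐ[k] L => hpt L (homOf (toEl (δ (𝟙 _) (V.σ g)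
    (by rw [Category.id_comp, V.σ_π]) (Category.id_comp _) rfl)) : (AlgSp.yon S).obj _ ⟶ F)
  have hx : Has ⟨L, u₀, r⟩ x := ⟨V, hVπ, hVσ, δ, ψ, hn, hψ, hψn, hspec, fun g => (hr g).symm⟩
  refine ⟨⟨⟨L, u₀, r⟩, x, hx⟩, ?_⟩
  show Nonempty ((⟨x, hx⟩ : ∃ y, Has ⟨L, u₀, r⟩ y).choose ≅ x)
  obtain ⟨V', hVπ', hVσ', δ', ψ', hn', hψ', hψn', hspec', hr'⟩ :=
    (⟨x, hx⟩ : ∃ y, Has ⟨L, u₀, r⟩ y).choose_spec
  generalize (⟨x, hx⟩ : ∃ y, Has ⟨L, u₀, r⟩ y).choose = y at *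
  have hππ : V'.π = V.π := Over.OverMorphism.ext (hVπ'.trans hVπ.symm)
  have hσσ : ∀ g, V'.σ g = V.σ g := fun g => Over.OverMorphism.ext ((hVσ' g).trans (hVσ g).symm)
  let δ'' : Family a₀ V u₀ := fun {T} l l' e {w w'} hw hw' => δ' l l' (by rw [hππ]; exact e) hw hw'
  have hn'' : δ''.Natural := fun {T T'} j l l' e {w w'} hw hw' {v v'} hv hv' =>
    hn' j l l' (by rw [hππ]; exact e) hw hw' hv hv'
  have hδ : ∀ {T : Over S} (l l' : T ⟶ Over.mk (subStr k sk L)) (e : l ≫ V.π = l' ≫ V.π) {w w' : T ⟶ W₀}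
      (hw : l ≫ u₀ = w) (hw' : l' ≫ u₀ = w'), δ l l' e hw hw' = δ'' l l' e hw hw' := by
    refine Family.eq_of_pieces hd hn hn'' ?_
    intro T l g w w' hw hw'
    have he : 𝟙 _ ≫ V.π = V.σ g ≫ V.π := by rw [Category.id_comp, V.σ_π]
    have h1 : δ (𝟙 _) (V.σ g) he (Category.id_comp _) (rfl : V.σ g ≫ u₀ = _) =
        δ'' (𝟙 _) (V.σ g) he (Category.id_comp _) rfl := by
      have h2 : toEl (δ (𝟙 _) (V.σ g) he (Category.id_comp _) (rfl : V.σ g ≫ u₀ = _)) =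
          toEl (δ'' (𝟙 _) (V.σ g) he (Category.id_comp _) rfl) := by
        have h3 := congrArg secOf ((hr g).symm.trans (hr' g).symm)
        rw [secOf_homOf, secOf_homOf] at h3
        have : ∀ (σ₁ : Over.mk (subStr k sk L) ⟶ Over.mk (subStr k sk L)) (_ : σ₁ = V.σ g)
            (c : 𝟙 _ ≫ V'.π = σ₁ ≫ V'.π),
            toEl (δ' (𝟙 _) σ₁ c (Category.id_comp u₀) rfl) =
              toEl (δ'' (𝟙 _) (V.σ g) he (Category.id_comp u₀) rfl) := by
          rintro _ rfl c; rfl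
        exact h3.trans (this _ (hσσ g) (by rw [Category.id_comp, V'.σ_π]))
      obtain ⟨e₁, e₂, e₃⟩ := toEl_eq h2
      rwa [IsoG.res_id] at e₃
    have h4 := congrArg (IsoG.res l hw (show l ≫ V.σ g ≫ u₀ = w' by rw [← Category.assoc, hw'])) h1
    rw [hn l _ _ he (Category.id_comp _) rfl, hn'' l _ _ he (Category.id_comp _) rfl] at h4
    have key : ∀ (θ : Family a₀ V u₀) (r₁ r₂ : T ⟶ Over.mk (subStr k sk L)) (c : r₁ ≫ V.π = r₂ ≫ V.π)
        (_ : r₁ = l) (_ : r₂ = l ≫ V.σ g) (f₁ : r₁ ≫ u₀ = w) (f₂ : r₂ ≫ u₀ = w')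
        (c₀ : l ≫ V.π = (l ≫ V.σ g) ≫ V.π), θ r₁ r₂ c f₁ f₂ = θ l (l ≫ V.σ g) c₀ hw hw' := by
      rintro θ _ _ _ rfl rfl _ _ _; rfl
    have c₁ : (l ≫ 𝟙 _) ≫ V.π = (l ≫ V.σ g) ≫ V.π := by rw [Category.assoc, Category.assoc, he]
    rw [key δ _ _ c₁ (Category.comp_id l) rfl (by rw [Category.comp_id, hw]) hw' (by rw [Category.assoc, V.σ_π]),
      key δ'' _ _ c₁ (Category.comp_id l) rfl (by rw [Category.comp_id, hw]) hw' (by rw [Category.assoc, V.σ_π])] at h4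
    exact h4
  have ψ_iso : ∀ {T : Over S} (l : T ⟶ Over.mk (subStr k sk L)) {w : T ⟶ W₀} {m : T ⟶ Over.mk sk}
      (hw : l ≫ u₀ = w) (hm : l ≫ V.π = m), IsIso (ψ l hw hm) := fun {T} l {w m} hw hm =>
    isIso_of_vert _ (hψ l hw hm)
  let f : ∀ {T : Over S} (l : T ⟶ Over.mk (subStr k sk L)) {m : T ⟶ Over.mk sk}, l ≫ V.π = m →
      (y.obj (ov m) ⟶ x.obj (ov m)) := fun {T} l {m} hm =>
    haveI := ψ_iso l (rfl : l ≫ u₀ = _) hm
    ψ' l rfl ((congrArg (fun t => l ≫ t) hππ).trans hm) ≫ inv (ψ l rfl hm)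
  refine exists_iso_of_family V.π ((isStack_iff.1 hst) _ (facSv_mem V.π V.etale V.surj)).1 y x f
    (fun {T} l {m} hm => ?_) (fun {T T''} j l {m} hm {m'} em hm' => ?_) (fun {T} l l' {m} hm hm' => ?_)
  · haveI := ψ_iso l (rfl : l ≫ u₀ = _) hm
    simp only [f]
    rw [Functor.map_comp, Functor.map_inv, hψ' l rfl ((congrArg (fun t => l ≫ t) hππ).trans hm)]
    simp [hψ l rfl hm]
  · haveI := ψ_iso l (rfl : l ≫ u₀ = _) hm
    haveI := ψ_iso (j ≫ l) (rfl : (j ≫ l) ≫ u₀ = _) hm'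
    have e' : ∀ {m₁ : T'' ⟶ Over.mk sk}, (j ≫ l) ≫ V.π = m₁ → (j ≫ l) ≫ V'.π = m₁ := fun h =>
      (congrArg (fun t => (j ≫ l) ≫ t) hππ).trans h
    have h : inv (ψ (j ≫ l) rfl hm') ≫ x.map (ovHom j em) =
        a₀.map (ovHom j (Category.assoc j l u₀).symm) ≫ inv (ψ l rfl hm) := by
      rw [IsIso.inv_comp_eq, ← Category.assoc, IsIso.eq_comp_inv]
      exact (hψn j l rfl hm rfl (Category.assoc j l u₀).symm em rfl hm').symm
    simp only [f]
    rw [Category.assoc, h, ← Category.assoc,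
      hψn' j l rfl ((congrArg (fun t => l ≫ t) hππ).trans hm) rfl (Category.assoc j l u₀).symm em rfl (e' hm'),
      Category.assoc]
  · haveI := ψ_iso l (rfl : l ≫ u₀ = _) hm
    haveI := ψ_iso l' (rfl : l' ≫ u₀ = _) hm'
    have eq : l ≫ V.π = l' ≫ V.π := hm.trans hm'.symm
    simp only [f]
    rw [IsIso.eq_comp_inv, Category.assoc, ← hspec l l' eq rfl rfl hm hm', IsIso.inv_hom_id_assoc,
      hδ l l' eq rfl rfl]
    exact hspec' l l' (by rw [hππ]; exact eq) rfl rfl _ ((congrArg (fun t => l' ≫ t) hππ).trans hm')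

end Groth.Agent.KPointChart
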