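import Groth.Agent.ASt.LocQCalc
import Groth.Agent.ASt.Inv
import Groth.Agent.ASp.SmST
import Groth.Agent.ASt.Diag
/-!
Charts of a stack smooth over the base are smooth over the base.
-/

set_option autoImplicit false
set_option backward.isDefEq.respectTransparency false
set_option backward.isDefEq.respectTransparency.types false
set_option linter.unusedSectionVars false
set_option linter.style.haveILetI false

universe u

open CategoryTheory CategoryTheory.Limits AlgebraicGeometry Opposite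

namespace Groth.Agent.KPointChart

open Groth.Agent.ASt Groth.Agent.ASp

variable {S : Scheme.{u}} {𝒳 𝒴 𝒲 : AlgSt.Cat S}

/-- Cancellation of fully faithful functors. -/
theorem repWith_of_comp_ff [FibCat.IsFibGrpd 𝒳.p] [FibCat.IsFibGrpd 𝒴.p] [FibCat.IsFibGrpd 𝒲.p]
    {P : MorphismProperty (AlgSp.Sp S)} (Φ : 𝒴 ⥤ᵇ 𝒳) [Φ.toFunctor.Full] [Φ.toFunctor.Faithful] {g : 𝒲 ⥤ᵇ 𝒴}
    (h : AlgSt.RepByAlgSpWith P (BasedFunctor.comp g Φ)) : AlgSt.RepByAlgSpWith P g := fun U y => by
  haveI : (BasedFunctor.comp g Φ).toFunctor.Faithful :=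
    faithful_of_repByAlgSp1 (repByAlgSp1_of_with h)
  haveI : (g.toFunctor ⋙ Φ.toFunctor).Faithful :=
    inferInstanceAs (BasedFunctor.comp g Φ).toFunctor.Faithful
  haveI : g.toFunctor.Faithful := Functor.Faithful.of_comp _ Φ.toFunctor
  exact exists_rep_transfer (postF Φ y g) (fpHom_postF _ _) (bijective_postF _ _) (h U _)

/-- A scheme smooth over the base category is smooth over the base scheme. -/
theorem smooth_hom_of_rep {V : Over S} (y : FibCat.overCat V ⥤ᵇ FibCat.selfOver (Over S))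
    (hy : AlgSt.RepByAlgSpWith (AlgSp.LocP @Smooth) y) : Smooth V.hom := by
  let T : Over S := Over.mk (𝟙 S)
  let v : V ⟶ T := Over.homMk V.hom (Category.comp_id _)
  let Φ : FibCat.overCat T ⥤ᵇ FibCat.selfOver (Over S) := FibCat.toSelf _
  have hsub : ∀ {A : Over S} (a b : A ⟶ T), a = b := fun a b => Over.OverMorphism.ext
    ((Category.comp_id _).symm.trans ((Over.w a).trans ((Over.w b).symm.trans (Category.comp_id _))))
  haveI : Φ.toFunctor.Faithful := ⟨fun h => Over.OverMorphism.ext h⟩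
  haveI : Φ.toFunctor.Full := ⟨fun {g h} m => ⟨Over.homMk m (hsub _ _), rfl⟩⟩
  have α : y ≅ BasedFunctor.comp (AlgSt.overMap v) Φ :=
    funIso (eqToHom (show y.obj (ov (𝟙 V)) = (BasedFunctor.comp (AlgSt.overMap v) Φ).obj (ov (𝟙 V)) from
      y.w_obj (ov (𝟙 V)))) (by
      exact eqToHom_map _ _)
  exact prop_of_repByAlgSpWith_overMap (repWith_of_comp_ff Φ (repByAlgSpWith_congr α hy))

/-- Every smooth chart of a stack smooth over the base is smooth over the base. -/
theorem smooth_hom_of_locQ [FibCat.IsFibGrpd 𝒳.p]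
    (hsm : AlgSt.LocQ (AlgSp.LocP @Smooth) (FibCat.toSelf 𝒳))
    {U : Over S} (p : FibCat.overCat U ⥤ᵇ 𝒳) (hp : AlgSt.RepByAlgSpWith (AlgSp.LocP @Smooth) p) :
    Smooth U.hom := by
  obtain ⟨U₁, V₁, x, y, h, -, hx, hxs, hy, hh⟩ := hsm
  haveI : Smooth V₁.hom := smooth_hom_of_rep y hy
  haveI : Smooth h.left := hh (𝟙 _) (𝟙 _) h (AlgSp.repWith_id _ U₁) (AlgSp.repWith_id _ V₁) (by simp)
  haveI : Smooth U₁.hom := by rw [← Over.w h]; infer_instance
  haveI : FibCat.IsFibGrpd (FibCat.fp p x).p := isFibGrpd_fp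
  obtain ⟨hs, hA, W, q, E, g, hqe, hqs, -, -, -, hE⟩ := exists_chart_of_fib (repByAlgSp1_of_with hx) p
  have hEsm := hE (P := AlgSp.LocP @Smooth) hqe fun v hv => locP_of_repWith (repWith_yon_map
    (haveI : Etale v.left := hv; inferInstance))
  have hEsu := hE (P := AlgSp.IsSurjectiveMor) hqs fun v hv => surjective_map_of_repWith (repWith_yon_map hv)
  obtain ⟨w, ⟨β⟩⟩ := exists_overMap (BasedFunctor.comp E (FibCat.fpFst p x))
  obtain ⟨w₀, ⟨β₀⟩⟩ := exists_overMap (BasedFunctor.comp E (FibCat.fpSnd p x))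
  have hw : Smooth w.left := prop_of_repByAlgSpWith_overMap
    (repByAlgSpWith_congr β (repByAlgSpWith_comp compLocal_smooth hEsm (repByAlgSpWith_fpFst p hx)))
  haveI hw₀ : Smooth w₀.left := prop_of_repByAlgSpWith_overMap
    (repByAlgSpWith_congr β₀ (repByAlgSpWith_comp compLocal_smooth hEsm (repByAlgSpWith_fpSnd x hp)))
  haveI hws : Surjective w.left := ⟨fun t => by
    obtain ⟨v, hv⟩ := isSurjective_of_repByAlgSpWith
      (repByAlgSpWith_congr β (repByAlgSpWith_comp compLocal_surjective hEsu (repByAlgSpWith_fpFst p hxs)))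
      (schemePts U t)
    obtain ⟨s, rfl⟩ := (schemePts W).surjective v
    rw [map_schemePts, ← show AlgSt.Points.ofChart (BasedFunctor.id (FibCat.overCat U)) (w.left s) =
      AlgSt.Points.ofChart (AlgSt.overMap w) s from (ofChart_overMap w _ s).symm, schemePts_apply] at hv
    exact ⟨s, injective_ofChart_id U hv⟩⟩
  let T : Over S := Over.mk (𝟙 S)
  let k : U ⟶ T := Over.homMk U.hom (Category.comp_id _)
  refine prop_left_of_locP (k := k) ?_
  refine smLoc_descend (isSmoothLocalST_locP (M := @Smooth)) (AlgSp.IsAlgSpace.yon_obj U) (AlgSp.IsAlgSpace.yon_obj W)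
    (AlgSp.IsAlgSpace.yon_obj T) (locP_of_repWith (repWith_yon_map hw))
    (surjective_map_of_repWith (repWith_yon_map (P := @Surjective) hws)) ?_
  rw [← Functor.map_comp]
  refine locP_of_repWith (repWith_yon_map ?_)
  show Smooth (w.left ≫ U.hom)
  rw [Over.w w, ← Over.w w₀]
  infer_instance

end Groth.Agent.KPointChart
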